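import Groth.Agent.DRingLift.Red
import Groth.Agent.DRingTorAmp.Change

/-!
# Reduction of complexes modulo an ideal
-/

universe u

open CategoryTheory Limits HomologicalComplex
open scoped TensorProduct

namespace Groth.Agent.DRingLift

set_option linter.style.haveILetI false

open Groth.Agent.DRingTorAmp

variable {R : Type u} [CommRing R] {I : Ideal R}

/-- A complex over `R/I` viewed over `R`. -/
noncomputable abbrev resI (I : Ideal R) (E : DRing.Cx (R ⧸ I)) : DRing.Cx R :=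
  (DRing.restrictCx (Ideal.Quotient.mk I)).obj E

theorem smul_eq_zero_of_mem {E : DRing.Cx (R ⧸ I)} {i : ℤ} {r : R} (hr : r ∈ I) (x : (resI I E).X i) : r • x = 0 := by
  show (Ideal.Quotient.mk I r) • (show E.X i from x) = (0 : E.X i)
  rw [Ideal.Quotient.eq_zero_iff_mem.2 hr, zero_smul]

theorem smul_top_le_ker {E : DRing.Cx (R ⧸ I)} {i : ℤ} {X : Type u} [AddCommGroup X] [Module R X]
    (π : X →ₗ[R] (resI I E).X i) : I • (⊤ : Submodule R X) ≤ LinearMap.ker π :=
  Submodule.smul_le.2 fun r hr x _ => by rw [LinearMap.mem_ker, map_smul, smul_eq_zero_of_mem hr]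

theorem resI_exactAt_iff (E : DRing.Cx (R ⧸ I)) (i : ℤ) : (resI I E).ExactAt i ↔ E.ExactAt i := by
  rw [exact_d_iff _ (i - 1) i (i + 1) (by omega) rfl, exact_d_iff _ (i - 1) i (i + 1) (by omega) rfl]
  exact Iff.rfl

theorem resI_above {E : DRing.Cx (R ⧸ I)} {b : ℤ} (hE : DRing.VanishesAbove E b) :
    DRing.VanishesAbove (resI I E) b := fun j hj => (ModuleCat.restrictScalars.{u} _).map_isZero (hE j hj)

/-- The map `P ⊗ R/I ⟶ E` attached to `P ⟶ E`. -/
noncomputable def liftCx {P : DRing.Cx R} {E : DRing.Cx (R ⧸ I)} (G : P ⟶ resI I E) :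
    (escCx (Ideal.Quotient.mk I)).obj P ⟶ E where
  f i := ((ModuleCat.extendRestrictScalarsAdj.{u} (Ideal.Quotient.mk I)).homEquiv (P.X i) (E.X i)).symm (G.f i)
  comm' i j _ := ((Adjunction.homEquiv_naturality_right_symm _ _ _).symm.trans
    (congrArg _ (G.comm i j))).trans (Adjunction.homEquiv_naturality_left_symm _ _ _)

theorem liftCx_tmul {P : DRing.Cx R} {E : DRing.Cx (R ⧸ I)} (G : P ⟶ resI I E) (i : ℤ) (x : P.X i) :
    letI := (Ideal.Quotient.mk I).toAlgebra
    (liftCx G).f i ((1 : R ⧸ I) ⊗ₜ[R] x : (R ⧸ I) ⊗[R] P.X i) = G.f i x :=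
  one_smul (R ⧸ I) (show E.X i from G.f i x)

theorem exists_tmul_one {X : Type u} [AddCommGroup X] [Module R X] :
    letI := (Ideal.Quotient.mk I).toAlgebra
    ∀ w : (R ⧸ I) ⊗[R] X, ∃ x : X, (1 : R ⧸ I) ⊗ₜ[R] x = w := by
  letI := (Ideal.Quotient.mk I).toAlgebra
  intro w
  induction w with
  | zero => exact ⟨0, TensorProduct.tmul_zero _ _⟩
  | tmul r y =>
    obtain ⟨r, rfl⟩ := Ideal.Quotient.mk_surjective r
    refine ⟨r • y, ?_⟩
    rw [← TensorProduct.smul_tmul]
    show (Ideal.Quotient.mk I r * 1) ⊗ₜ[R] y = _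
    rw [mul_one]
  | add a b ha hb =>
    obtain ⟨a', rfl⟩ := ha
    obtain ⟨b', rfl⟩ := hb
    exact ⟨a' + b', TensorProduct.tmul_add _ _ _⟩

theorem tmul_one_eq_zero_iff {X : Type u} [AddCommGroup X] [Module R X] :
    letI := (Ideal.Quotient.mk I).toAlgebra
    ∀ x : X, ((1 : R ⧸ I) ⊗ₜ[R] x = 0 ↔ x ∈ I • (⊤ : Submodule R X)) := by
  letI := (Ideal.Quotient.mk I).toAlgebra
  intro x
  constructor
  · intro h
    have h2 := congrArg (TensorProduct.quotTensorEquivQuotSMul X I) h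
    rw [map_zero] at h2
    refine (Submodule.Quotient.mk_eq_zero _).1 (Eq.trans ?_ h2)
    rw [← map_one (Ideal.Quotient.mk I)]
    exact ((TensorProduct.quotTensorEquivQuotSMul_mk_tmul I 1 _).trans (by rw [one_smul])).symm
  · intro hc
    refine Submodule.smul_induction_on hc (fun r hr y _ => ?_) (fun y z hy hz => ?_)
    · rw [← TensorProduct.smul_tmul]
      show (Ideal.Quotient.mk I r * 1) ⊗ₜ[R] y = 0
      rw [Ideal.Quotient.eq_zero_iff_mem.2 hr, zero_mul, TensorProduct.zero_tmul]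
    · rw [TensorProduct.tmul_add, hy, hz, add_zero]

/-- A map which is a reduction in every degree identifies `E` with `P ⊗ R/I`. -/
theorem exists_red_iso {P : DRing.Cx R} {E : DRing.Cx (R ⧸ I)} (G : P ⟶ resI I E)
    (h : ∀ i, IsRed I (G.f i).hom) : Nonempty ((escCx (Ideal.Quotient.mk I)).obj P ≅ E) := by
  letI := (Ideal.Quotient.mk I).toAlgebra
  haveI : ∀ i, IsIso ((liftCx G).f i) := fun i => by
    rw [ConcreteCategory.isIso_iff_bijective]
    refine ⟨(injective_iff_map_eq_zero _).2 fun w hw => ?_, fun e => ?_⟩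
    · obtain ⟨x, rfl⟩ := exists_tmul_one (I := I) (show (R ⧸ I) ⊗[R] P.X i from w)
      refine (tmul_one_eq_zero_iff (I := I) x).2 ?_
      rw [← (h i).2, LinearMap.mem_ker]
      exact (liftCx_tmul G i x).symm.trans hw
    · obtain ⟨x, hx⟩ := (h i).1 e
      exact ⟨((1 : R ⧸ I) ⊗ₜ[R] x : (R ⧸ I) ⊗[R] P.X i), (liftCx_tmul G i x).trans hx⟩
  haveI := HomologicalComplex.Hom.isIso_of_components (liftCx G)
  exact ⟨asIso (liftCx G)⟩

/-- `x ↦ 1 ⊗ x`. -/
noncomputable def redCx (I : Ideal R) (P : DRing.Cx R) : P ⟶ resI I ((escCx (Ideal.Quotient.mk I)).obj P) where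
  f i := (ModuleCat.extendRestrictScalarsAdj.{u} (Ideal.Quotient.mk I)).unit.app (P.X i)
  comm' i j _ := ((ModuleCat.extendRestrictScalarsAdj.{u} (Ideal.Quotient.mk I)).unit.naturality (P.d i j)).symm

theorem redCx_apply (P : DRing.Cx R) (i : ℤ) (x : P.X i) :
    letI := (Ideal.Quotient.mk I).toAlgebra
    (redCx I P).f i x = ((1 : R ⧸ I) ⊗ₜ[R] x : (R ⧸ I) ⊗[R] P.X i) :=
  rfl

theorem isRed_redCx (P : DRing.Cx R) (i : ℤ) : IsRed I ((redCx I P).f i).hom :=
  ⟨fun w => exists_tmul_one (I := I) w, Submodule.ext fun x => tmul_one_eq_zero_iff (I := I) x⟩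

end Groth.Agent.DRingLift
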