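import Groth.Agent.DRingLift.Lift
import Groth.Agent.DRingTorAmp.Values
import Groth.Agent.CAlgProj.Mod
import Mathlib.RingTheory.Nakayama
import Mathlib.Algebra.Module.StablyFree.Basic

/-!
# Classes of modules along which complexes lift
-/

universe u

open CategoryTheory Limits
open scoped TensorProduct

namespace Groth.Agent.DRingLift

attribute [local instance] HasDerivedCategory.standard

set_option linter.style.haveILetI false

open Groth.Agent.DRingTorAmp

variable {R : Type u} [CommRing R] {I : Ideal R}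

/-- Finite projective modules. -/
def finProj (R : Type u) [CommRing R] : ObjectProperty (ModuleCat.{u} R) :=
  fun X => Module.Finite R X ∧ Module.Projective R X

/-- Finite free modules. -/
def finFree (R : Type u) [CommRing R] : ObjectProperty (ModuleCat.{u} R) :=
  fun X => Module.Finite R X ∧ Module.Free R X

/-- Finite stably free modules. -/
def finStab (R : Type u) [CommRing R] : ObjectProperty (ModuleCat.{u} R) :=
  fun X => Module.Finite R X ∧ Module.IsStablyFree R X

/-- Projective modules. -/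
def allProj (R : Type u) [CommRing R] : ObjectProperty (ModuleCat.{u} R) :=
  fun X => Module.Projective R X

theorem projective_of_stablyFree (X : Type u) [AddCommGroup X] [Module R X] [Module.IsStablyFree R X] :
    Module.Projective R X := by
  obtain ⟨N, _, _, _, _, _⟩ := Module.IsStablyFree.exist_free_prod R X
  exact Module.Projective.of_split (LinearMap.inl R X N) (LinearMap.fst R X N) (LinearMap.ext fun _ => rfl)

theorem surjective_of_finite (hI : I ≤ Ideal.jacobson (⊥ : Ideal R)) {X Y : Type u} [AddCommGroup X] [Module R X]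
    [AddCommGroup Y] [Module R Y] [Module.Finite R Y] (f : X →ₗ[R] Y)
    (h : LinearMap.range f ⊔ I • (⊤ : Submodule R Y) = ⊤) : Function.Surjective f := by
  rw [← LinearMap.range_eq_top]
  exact eq_top_iff.2 (Submodule.le_of_le_smul_of_le_jacobson_bot Module.Finite.fg_top hI h.ge)

theorem finite_of_prod (X Y : Type u) [AddCommGroup X] [Module R X] [AddCommGroup Y] [Module R Y]
    [Module.Finite R (X × Y)] : Module.Finite R Y :=
  Module.Finite.of_surjective (LinearMap.snd R X Y) Prod.snd_surjective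

theorem projective_of_prod (X Y : Type u) [AddCommGroup X] [Module R X] [AddCommGroup Y] [Module R Y]
    [Module.Projective R (X × Y)] : Module.Projective R Y :=
  Module.Projective.of_split (LinearMap.inr R X Y) (LinearMap.snd R X Y) (LinearMap.ext fun _ => rfl)

theorem finProj_liftClass (hI : I ≤ Ideal.jacobson (⊥ : Ideal R)) : LiftClass I (finProj R) where
  iso := ⟨fun e ⟨h1, h2⟩ => ⟨Module.Finite.equiv e.toLinearEquiv, Module.Projective.of_equiv e.toLinearEquiv⟩⟩
  proj _ h := h.2
  cancel X Y _ h := haveI : Module.Finite R (X × Y) := h.1; haveI : Module.Projective R (X × Y) := h.2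
    ⟨finite_of_prod X Y, projective_of_prod X Y⟩
  surj X Y f _ hY h := haveI : Module.Finite R Y := hY.1; surjective_of_finite hI f.hom h

theorem finStab_liftClass (hI : I ≤ Ideal.jacobson (⊥ : Ideal R)) : LiftClass I (finStab R) where
  iso := ⟨fun e ⟨h1, h2⟩ => ⟨Module.Finite.equiv e.toLinearEquiv, Module.IsStablyFree.equiv e.toLinearEquiv⟩⟩
  proj X h := haveI := h.2; projective_of_stablyFree X
  cancel X Y hX h := by
    haveI : Module.Finite R (X × Y) := h.1
    haveI := hX.1
    obtain ⟨A, _, _, _, _, _⟩ := hX.2.exist_free_prod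
    haveI : Module.IsStablyFree R (X × Y) := h.2
    obtain ⟨B, _, _, _, _, _⟩ := Module.IsStablyFree.exist_free_prod R (X × Y)
    refine ⟨finite_of_prod X Y, ?_⟩
    haveI : Module.Free R (((X × Y) × B) × A) := inferInstance
    haveI : Module.Free R (((X × A) × B) × Y) := Module.Free.of_equiv
      ({ toFun := fun p => (((p.1.1.1, p.2), p.1.2), p.1.1.2)
         invFun := fun p => (((p.1.1.1, p.2), p.1.2), p.1.1.2)
         left_inv := fun _ => rfl
         right_inv := fun _ => rfl
         map_add' := fun _ _ => rfl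
         map_smul' := fun _ _ => rfl } : (((X × Y) × B) × A) ≃ₗ[R] (((X × A) × B) × Y))
    exact Module.IsStablyFree.of_free_prod' R Y ((X × A) × B)
  surj X Y f _ hY h := haveI : Module.Finite R Y := hY.1; surjective_of_finite hI f.hom h

theorem finStab_prod (X Y : ModuleCat.{u} R) (hX : finStab R X) (hY : finStab R Y) :
    finStab R (ModuleCat.of R (X × Y)) := by
  haveI := hX.1
  haveI := hY.1
  obtain ⟨A, _, _, _, _, _⟩ := hX.2.exist_free_prod
  obtain ⟨B, _, _, _, _, _⟩ := hY.2.exist_free_prod
  refine ⟨inferInstanceAs (Module.Finite R (X × Y)), ?_⟩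
  haveI : Module.Free R ((X × Y) × (A × B)) := Module.Free.of_equiv (LinearEquiv.prodProdProdComm R X A Y B)
  exact Module.IsStablyFree.of_free_prod R (X × Y) (A × B)

theorem finFree_liftClass [IsLocalRing R] (hI : I ≤ Ideal.jacobson (⊥ : Ideal R)) : LiftClass I (finFree R) where
  iso := ⟨fun e ⟨h1, h2⟩ => ⟨Module.Finite.equiv e.toLinearEquiv, Module.Free.of_equiv e.toLinearEquiv⟩⟩
  proj X h := haveI := h.2; inferInstance
  cancel X Y _ h := by
    haveI : Module.Finite R (X × Y) := h.1
    haveI : Module.Free R (X × Y) := h.2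
    haveI := finite_of_prod (R := R) X Y
    haveI : Module.Projective R (X × Y) := Module.Projective.of_free
    haveI : Module.Projective R Y := projective_of_prod X Y
    exact ⟨inferInstance, Module.free_of_flat_of_isLocalRing⟩
  surj X Y f _ hY h := haveI : Module.Finite R Y := hY.1; surjective_of_finite hI f.hom h

theorem allProj_liftClass (hI : IsNilpotent I) : LiftClass I (allProj R) where
  iso := ⟨fun e h => haveI : Module.Projective R _ := h; Module.Projective.of_equiv e.toLinearEquiv⟩
  proj _ h := h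
  cancel X Y _ h := haveI : Module.Projective R (X × Y) := h; projective_of_prod X Y
  surj X Y f _ _ h := by
    obtain ⟨k, hk⟩ := hI
    have hm : ∀ n : ℕ, LinearMap.range f.hom ⊔ I ^ n • (⊤ : Submodule R Y) = ⊤ := by
      intro n
      induction n with
      | zero => simp
      | succ n ih =>
        rw [eq_top_iff]
        refine ih.ge.trans (sup_le le_sup_left ?_)
        refine (Submodule.smul_mono le_rfl h.ge).trans ?_
        rw [Submodule.smul_sup, ← Submodule.mul_smul, ← pow_succ]
        exact sup_le (Submodule.smul_le_right.trans le_sup_left) le_sup_right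
    rw [← LinearMap.range_eq_top]
    simpa [hk] using hm k

theorem esc_projective {A B : Type u} [CommRing A] [CommRing B] (φ : A →+* B) {X : ModuleCat.{u} A}
    (hX : Module.Projective A X) : Module.Projective B ((ModuleCat.extendScalars.{u, u, u} φ).obj X) := by
  letI := φ.toAlgebra
  haveI := hX
  exact inferInstanceAs (Module.Projective B (B ⊗[A] X))

/-- Representatives of an isomorphism in `D`: a bounded above projective complex maps by a quasi-isomorphism. -/
theorem exists_lift_of_iso {Pc : ObjectProperty (ModuleCat.{u} R)} (hP : LiftClass I Pc)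
    (hprod : ∀ X Y : ModuleCat.{u} R, Pc X → Pc Y → Pc (ModuleCat.of R (X × Y)))
    [DRing.HasLBaseChange (Ideal.Quotient.mk I)]
    (K : Dual.D R) {Q : DRing.Cx R} {c : ℤ} (hQ : DRing.VanishesAbove Q c) (hQp : ∀ i, Pc (Q.X i))
    (eQ : DRing.toD Q ≅ K) {E : DRing.Cx (R ⧸ I)} {b : ℤ} (hEb : DRing.VanishesAbove E b)
    (hEt : ∀ i, ∃ (X : ModuleCat.{u} R) (π : X →ₗ[R] (resI I E).X i), Pc X ∧ IsRed I π)
    (hE : Nonempty (DRing.toD E ≅ (DRing.LBaseChange (Ideal.Quotient.mk I)).obj K)) :
    ∃ (P : DRing.Cx R) (b' : ℤ), DRing.VanishesAbove P b' ∧ (∀ i, Pc (P.X i)) ∧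
      Nonempty (DRing.toD P ≅ K) ∧ Nonempty ((escCx (Ideal.Quotient.mk I)).obj P ≅ E) := by
  let mk := Ideal.Quotient.mk I
  have hQfl : DRingKFlat.IsKFl Q := isKFl_of_flat hQ fun i => haveI := hP.proj _ (hQp i); inferInstance
  obtain ⟨e'⟩ := exists_lBaseChange_iso mk hQfl
  obtain ⟨eE⟩ := hE
  haveI : ((escCx mk).obj Q).IsKProjective := isKProjective_of_above (b := c)
    (fun i hi => (ModuleCat.extendScalars.{u, u, u} mk).map_isZero (hQ i hi)) fun i => by
      exact esc_projective mk (hP.proj _ (hQp i))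
  let e : DRing.toD ((escCx mk).obj Q) ≅ DRing.toD E :=
    e'.symm ≪≫ (DRing.LBaseChange mk).mapIso eQ ≪≫ eE.symm
  obtain ⟨g, hg⟩ := PCExt.Q_map_surjective_of_isKProjective ((escCx mk).obj Q) E e.hom
  haveI : IsIso (DerivedCategory.Q.map g) := by
    rw [show DerivedCategory.Q.map g = _ from hg]; infer_instance
  haveI : QuasiIso g := (DerivedCategory.isIso_Q_map_iff_quasiIso _ g).1 inferInstance
  obtain ⟨P, b', hPb, hPp, ⟨eP⟩, h⟩ := exists_lift hP hprod hQ hQp hEb hEt g
  exact ⟨P, b', hPb, hPp, ⟨eP ≪≫ eQ⟩, h⟩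

/-- A reduction from an identification `(R/I) ⊗ X = M`. -/
theorem exists_red_of_equiv {E : DRing.Cx (R ⧸ I)} {i : ℤ} {X : Type u} [AddCommGroup X] [Module R X]
    (e : (R ⧸ I) ⊗[R] X ≃ₗ[R ⧸ I] E.X i) : ∃ π : X →ₗ[R] (resI I E).X i, IsRed I π := by
  let π : X →ₗ[R] (resI I E).X i :=
    { toFun := fun x => e ((1 : R ⧸ I) ⊗ₜ[R] x)
      map_add' := fun x y => by rw [TensorProduct.tmul_add, map_add]; rfl
      map_smul' := fun r x => by
        rw [TensorProduct.tmul_smul, ← algebraMap_smul (R ⧸ I) r ((1 : R ⧸ I) ⊗ₜ[R] x), map_smul]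
        rfl }
  refine ⟨π, fun m => ?_, le_antisymm (fun x hx => ?_) (smul_top_le_ker _)⟩
  · obtain ⟨w, rfl⟩ := e.surjective m
    induction w with
    | zero => exact ⟨0, map_zero π |>.trans (map_zero e).symm⟩
    | tmul r y =>
      obtain ⟨r, rfl⟩ := Ideal.Quotient.mk_surjective r
      refine ⟨r • y, ?_⟩
      show e ((1 : R ⧸ I) ⊗ₜ[R] (r • y)) = _
      rw [← TensorProduct.smul_tmul, Algebra.smul_def, mul_one]
      rfl
    | add a b ha hb =>
      obtain ⟨a', ha'⟩ := ha
      obtain ⟨b', hb'⟩ := hb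
      exact ⟨a' + b', by rw [map_add, ha', hb', map_add]; rfl⟩
  · have h0 : ((1 : R ⧸ I) ⊗ₜ[R] x) = 0 := e.map_eq_zero_iff.1 hx
    have h2 := congrArg (TensorProduct.quotTensorEquivQuotSMul X I) h0
    rw [map_zero] at h2
    refine (Submodule.Quotient.mk_eq_zero _).1 (Eq.trans ?_ h2)
    rw [← map_one (Ideal.Quotient.mk I)]
    exact ((TensorProduct.quotTensorEquivQuotSMul_mk_tmul I 1 _).trans (by rw [one_smul])).symm

/-- The reduction `R^ι → (R/I)^ι`. -/
noncomputable def finsuppRed (I : Ideal R) (ι : Type u) : (ι →₀ R) →ₗ[R] (ι →₀ R ⧸ I) :=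
  Finsupp.mapRange.linearMap (Algebra.linearMap R (R ⧸ I))

theorem isRed_finsuppRed (ι : Type u) : IsRed I (finsuppRed I ι) := by
  classical
  refine ⟨Finsupp.mapRange_surjective _ (map_zero _) Ideal.Quotient.mk_surjective, le_antisymm (fun x hx => ?_)
    (Submodule.smul_le.2 fun r hr x _ => ?_)⟩
  · rw [← x.sum_single]
    refine Submodule.sum_mem _ fun i _ => ?_
    have hi : x i ∈ I := Ideal.Quotient.eq_zero_iff_mem.1 (DFunLike.congr_fun (LinearMap.mem_ker.1 hx) i)
    rw [show Finsupp.single i (x i) = x i • Finsupp.single i (1 : R) by rw [Finsupp.smul_single', mul_one]]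
    exact Submodule.smul_mem_smul hi Submodule.mem_top
  · refine LinearMap.mem_ker.2 (Finsupp.ext fun i => ?_)
    exact Ideal.Quotient.eq_zero_iff_mem.2 (I.mul_mem_right (x i) hr)

/-- Projective modules lift along nilpotent ideals. -/
theorem exists_red_projective (hI : IsNilpotent I) {E : DRing.Cx (R ⧸ I)} {i : ℤ}
    (hE : Module.Projective (R ⧸ I) (E.X i)) :
    ∃ (X : ModuleCat.{u} R) (π : X →ₗ[R] (resI I E).X i), Module.Projective R X ∧ IsRed I π := by
  classical
  let M : Type u := E.X i
  let μ := finsuppRed I M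
  let G : (M →₀ R ⧸ I) →ₗ[R ⧸ I] E.X i := Finsupp.linearCombination (R ⧸ I) id
  obtain ⟨s, hs⟩ := Module.projective_lifting_property G LinearMap.id
    (fun m => ⟨Finsupp.single m 1, by simp [G]⟩)
  have hsG : ∀ m, G (s m) = m := fun m => LinearMap.congr_fun hs m
  let π₀ : (M →₀ R) →ₗ[R] (resI I E).X i := Finsupp.linearCombination R fun m : M => (show (resI I E).X i from m)
  choose pre hpre using (isRed_finsuppRed (I := I) M).1
  let e₀ : Module.End R (M →₀ R) := Finsupp.linearCombination R fun m : M => pre (s m)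
  have hπμ : ∀ x, π₀ x = (show (resI I E).X i from G (μ x)) := by
    intro x
    induction x using Finsupp.induction_linear with
    | zero => exact (map_zero π₀).trans ((congrArg G (map_zero μ)).trans (map_zero G)).symm
    | add x y hx hy => exact (map_add π₀ x y).trans ((congrArg₂ (· + ·) hx hy).trans
        ((congrArg G (map_add μ x y)).trans (map_add G _ _)).symm)
    | single m r =>
      have hs1 : μ (Finsupp.single m r) = Finsupp.single m (Ideal.Quotient.mk I r) := by
        ext j
        by_cases hj : m = j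
        · subst hj
          simp [μ, finsuppRed]
        · simp [μ, finsuppRed, hj]
      rw [hs1]
      refine (Finsupp.linearCombination_single R r m).trans ?_
      exact (Finsupp.linearCombination_single (R ⧸ I) (v := (id : E.X i → E.X i)) (Ideal.Quotient.mk I r) m).symm
  have hμe : ∀ x, μ (e₀ x) = s (G (μ x)) := by
    intro x
    induction x using Finsupp.induction_linear with
    | zero => simp
    | add x y hx hy => simp [hx, hy]
    | single m r =>
      simp only [e₀, Finsupp.linearCombination_single, map_smul, μ, G, finsuppRed, Finsupp.mapRange.linearMap_apply,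
        Finsupp.mapRange_single, id_eq]
      refine (congrArg (r • ·) (hpre (s m))).trans ?_
      ext j
      rw [Finsupp.smul_apply, Finsupp.smul_apply, Algebra.smul_def, smul_eq_mul]
      rfl
  have hG0 : ∀ x ∈ (I • ⊤ : Submodule R (M →₀ R)), μ x = 0 := fun x hx => by
    rw [← (isRed_finsuppRed (I := I) M).2] at hx
    exact hx
  obtain ⟨e, he, hee⟩ := CAlgProj.exists_idempotent_lift I hI e₀ fun x => by
    rw [← (isRed_finsuppRed (I := I) M).2, LinearMap.mem_ker, map_sub, hμe, hμe, hsG, sub_self]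
  have hμee : ∀ x, μ (e x) = s (G (μ x)) := fun x => by
    have := hG0 _ (hee x)
    rw [map_sub, sub_eq_zero] at this
    rw [this, hμe]
  have hπe : ∀ x, π₀ (e x) = π₀ x := fun x => by rw [hπμ, hπμ, hμee, hsG]
  let X := LinearMap.range e
  haveI : Module.Projective R X :=
    Module.Projective.of_split X.subtype e.rangeRestrict
      (LinearMap.ext fun ⟨y, x, hx⟩ => Subtype.ext (by show e y = y; rw [← hx, he]))
  refine ⟨ModuleCat.of R X, π₀ ∘ₗ X.subtype, ‹Module.Projective R X›, fun m => ?_,
    le_antisymm (fun y hy => ?_) (smul_top_le_ker _)⟩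
  · obtain ⟨z, hz⟩ := (isRed_finsuppRed (I := I) M).1 (Finsupp.single (show M from m) 1)
    refine ⟨⟨e z, z, rfl⟩, ?_⟩
    show π₀ (e z) = m
    rw [hπe, hπμ]
    show G (μ z) = _
    rw [hz]
    exact (Finsupp.linearCombination_single (R ⧸ I) (v := (id : E.X i → E.X i)) (1 : R ⧸ I) m).trans
      (one_smul (R ⧸ I) (show E.X i from m))
  · obtain ⟨y, x, rfl⟩ := y
    have h0 : π₀ (e x) = 0 := hy
    have h1 : μ (e x) = 0 := by
      have h2 : G (μ (e x)) = 0 := (hπμ (e x)).symm.trans h0
      rw [← he x, hμee, h2, map_zero]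
    have h3 : e x ∈ (I • ⊤ : Submodule R (M →₀ R)) := (isRed_finsuppRed (I := I) M).2 ▸ LinearMap.mem_ker.2 h1
    have h4 := Submodule.mem_map_of_mem (f := e.rangeRestrict) h3
    rw [Submodule.map_smul''] at h4
    have : e.rangeRestrict (e x) = (⟨e x, x, rfl⟩ : X) := Subtype.ext (he x)
    rw [this] at h4
    exact Submodule.smul_mono le_rfl le_top h4

/-- Stably free modules lift along ideals in the Jacobson radical. -/
theorem exists_red_stablyFree (hI : I ≤ Ideal.jacobson (⊥ : Ideal R)) {E : DRing.Cx (R ⧸ I)} {i : ℤ}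
    [Module.Finite (R ⧸ I) (E.X i)] [Module.IsStablyFree (R ⧸ I) (E.X i)] :
    ∃ (X : ModuleCat.{u} R) (π : X →ₗ[R] (resI I E).X i), finStab R X ∧ IsRed I π := by
  obtain ⟨A, _, _, _, _, _⟩ := Module.IsStablyFree.exist_free_prod (R ⧸ I) (E.X i)
  let cn := Module.Free.ChooseBasisIndex (R ⧸ I) (E.X i × A)
  let cm := Module.Free.ChooseBasisIndex (R ⧸ I) A
  let bn := (Module.Free.chooseBasis (R ⧸ I) (E.X i × A)).repr
  let bm := (Module.Free.chooseBasis (R ⧸ I) A).repr
  let gq : (cn →₀ R ⧸ I) →ₗ[R ⧸ I] (cm →₀ R ⧸ I) :=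
    bm.toLinearMap ∘ₗ LinearMap.snd (R ⧸ I) (E.X i) A ∘ₗ bn.symm.toLinearMap
  have hgs : Function.Surjective gq := fun y => ⟨bn (0, bm.symm y), by simp [gq]⟩
  have hff : ∀ ι : Type u, Finite ι → finStab R (ModuleCat.of R (ι →₀ R)) := fun ι _ =>
    ⟨inferInstanceAs (Module.Finite R (ι →₀ R)), inferInstanceAs (Module.IsStablyFree R (ι →₀ R))⟩
  obtain ⟨f, -, hc, hker, honto, hred⟩ := exists_lift_ker (finStab_liftClass hI)
    (X := ModuleCat.of R (cn →₀ R)) (W := ModuleCat.of R (cm →₀ R)) (hff cn inferInstance) (hff cm inferInstance)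
    (isRed_finsuppRed cn) (isRed_finsuppRed cm) (gq.restrictScalars R) hgs
  let θ : (cn →₀ R ⧸ I) → (resI I E).X i := fun w => (bn.symm w).1
  let π : LinearMap.ker f →ₗ[R] (resI I E).X i :=
    { toFun := fun w => θ (finsuppRed I cn w.1)
      map_add' := fun x y => by
        show (bn.symm (finsuppRed I cn (x.1 + y.1))).1 = _
        rw [map_add, map_add]
        rfl
      map_smul' := fun r x => by
        show (bn.symm (finsuppRed I cn (r • x.1))).1 = _
        rw [map_smul, ← algebraMap_smul (R ⧸ I) r (finsuppRed I cn x.1), map_smul]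
        rfl }
  have hθ : ∀ w, gq w = 0 → θ w = 0 → w = 0 := fun w h1 h2 => bn.symm.map_eq_zero_iff.1
    (Prod.ext h2 (bm.map_eq_zero_iff.1 h1))
  refine ⟨ModuleCat.of R (LinearMap.ker f), π, hker, fun m => ?_, le_antisymm (fun w hw => ?_) (smul_top_le_ker _)⟩
  · obtain ⟨x, hx, he⟩ := honto (bn ((show E.X i from m), 0)) (by
      show bm (bn.symm (bn ((show E.X i from m), (0 : A)))).2 = 0
      rw [LinearEquiv.symm_apply_apply, map_zero])
    refine ⟨⟨x, hx⟩, ?_⟩
    show (bn.symm (finsuppRed I cn x)).1 = _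
    rw [he, LinearEquiv.symm_apply_apply]
  · obtain ⟨w, hwf⟩ := w
    have h2 : θ (finsuppRed I cn w) = 0 := hw
    have h1 : gq (finsuppRed I cn w) = 0 := by
      refine (hc w).symm.trans ?_
      rw [LinearMap.mem_ker.1 hwf, map_zero]
    have h3 := hred w hwf (hθ _ h1 h2)
    have hmap : (I • ⊤ : Submodule R (LinearMap.ker f)).map (LinearMap.ker f).subtype = I • LinearMap.ker f := by
      rw [Submodule.map_smul'', Submodule.map_subtype_top]
    rw [← hmap] at h3
    obtain ⟨w', hw', he'⟩ := h3
    exact (Subtype.ext he' : w' = ⟨w, hwf⟩) ▸ hw'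

end Groth.Agent.DRingLift
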