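import Groth.Agent.DRingLift.Classes

/-!
# Freeness detected on the reduction; bounded above representatives
-/

universe u

open CategoryTheory Limits
open scoped TensorProduct

namespace Groth.Agent.DRingLift

attribute [local instance] HasDerivedCategory.standard

set_option linter.style.haveILetI false

open Groth.Agent.DRingTorAmp

variable {R : Type u} [CommRing R] {I : Ideal R}

theorem free_of_esc_free (hI : I ≤ Ideal.jacobson (⊥ : Ideal R)) {P : DRing.Cx R}
    {E : DRing.Cx (R ⧸ I)} (e : (escCx (Ideal.Quotient.mk I)).obj P ≅ E) (i : ℤ)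
    (hP : finProj R (P.X i)) [Module.Free (R ⧸ I) (E.X i)] : Module.Free R (P.X i) := by
  let q : P.X i →ₗ[R] (resI I E).X i := ((redCx I P ≫ (DRing.restrictCx (Ideal.Quotient.mk I)).map e.hom).f i).hom
  have hb : Function.Bijective (e.hom.f i) :=
    ConcreteCategory.bijective_of_isIso (((HomologicalComplex.eval _ _ i).mapIso e).hom)
  have hq : IsRed I q := by
    refine ⟨hb.2.comp (isRed_redCx P i).1, le_antisymm (fun x hx => ?_) (smul_top_le_ker q)⟩
    rw [← (isRed_redCx P i).2, LinearMap.mem_ker]
    exact hb.1 ((LinearMap.mem_ker.1 hx).trans (map_zero (e.hom.f i).hom).symm)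
  haveI : Module.Finite R (P.X i) := hP.1
  haveI : Module.Finite (R ⧸ I) (E.X i) := by
    refine Module.Finite.of_fg_top ?_
    obtain ⟨s, hs⟩ := (Module.Finite.fg_top : (⊤ : Submodule R (P.X i)).FG)
    classical
    refine ⟨s.image (fun x => (show E.X i from q x)), eq_top_iff.2 fun y _ => ?_⟩
    obtain ⟨x, rfl⟩ := hq.1 y
    have hx : x ∈ Submodule.span R (s : Set (P.X i)) := hs ▸ Submodule.mem_top
    induction hx using Submodule.span_induction with
    | mem x hx => exact Submodule.subset_span (Finset.mem_coe.2 (Finset.mem_image_of_mem (fun x => (show E.X i from q x)) hx))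
    | zero => rw [map_zero q]; exact zero_mem (Submodule.span (R ⧸ I) _)
    | add a b _ _ ha hb => rw [map_add q]; exact Submodule.add_mem (Submodule.span (R ⧸ I) _) (ha trivial) (hb trivial)
    | smul r a _ ha =>
      rw [map_smul q]
      exact Submodule.smul_mem (Submodule.span (R ⧸ I) _) (Ideal.Quotient.mk I r) (ha trivial)
  let ι := Module.Free.ChooseBasisIndex (R ⧸ I) (E.X i)
  let bn := (Module.Free.chooseBasis (R ⧸ I) (E.X i)).repr
  let g : (ι →₀ R ⧸ I) →ₗ[R] (resI I E).X i :=
    { toFun := fun w => (show (resI I E).X i from bn.symm w)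
      map_add' := fun x y => map_add bn.symm x y
      map_smul' := fun r w => by
        show bn.symm (r • w) = Ideal.Quotient.mk I r • bn.symm w
        rw [← algebraMap_smul (R ⧸ I) r w, map_smul]
        rfl }
  obtain ⟨f, hf, hc, hker, -, hred⟩ := exists_lift_ker (finProj_liftClass hI)
    (X := ModuleCat.of R (ι →₀ R)) (W := P.X i) ⟨inferInstanceAs (Module.Finite R (ι →₀ R)),
      inferInstanceAs (Module.Projective R (ι →₀ R))⟩ hP (isRed_finsuppRed ι) hq g bn.symm.surjective
  haveI : Module.Finite R (LinearMap.ker f) := hker.1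
  have hbot : LinearMap.ker f = ⊥ := by
    refine Submodule.eq_bot_of_le_smul_of_le_jacobson_bot I _ (Module.Finite.iff_fg.1 ‹_›) (fun x hx => ?_) hI
    exact hred x hx (by
      have h1 : q (f x) = 0 := by rw [LinearMap.mem_ker.1 hx, map_zero]
      exact bn.symm.map_eq_zero_iff.1 ((hc x).symm.trans h1))
  exact Module.Free.of_equiv (LinearEquiv.ofBijective f ⟨LinearMap.ker_eq_bot.1 hbot, hf⟩)

theorem exists_projective_rep (K : Dual.D R) (b : ℤ) (hb : ∀ i, b < i → Subsingleton (Dual.HD R K i)) :
    ∃ Q : DRing.Cx R, DRing.VanishesAbove Q b ∧ (∀ i, Module.Projective R (Q.X i)) ∧ Nonempty (DRing.toD Q ≅ K) := by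
  let K₀ := DerivedCategory.Q.objPreimage K
  let e₀ : DRing.toD K₀ ≅ K := DerivedCategory.Q.objObjPreimageIso K
  obtain ⟨Q, π, -, hπ, hfree, hQb⟩ := DRingKProj.exists_resolution_of_exactAt (K := K₀) (S := fun n => n ≤ b)
    (fun n hn => (subsingleton_HD_iff K₀ n).1 ((subsingleton_HD_congr e₀ n).2 (hb n (by omega))))
    (fun n hn => by omega)
  haveI : IsIso (DerivedCategory.Q.map π) := (DerivedCategory.isIso_Q_map_iff_quasiIso _ π).2 hπ
  exact ⟨Q, fun i hi => hQb i (by omega), fun i => haveI := hfree i; inferInstance,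
    ⟨asIso (DerivedCategory.Q.map π) ≪≫ e₀⟩⟩

end Groth.Agent.DRingLift
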