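import Groth.Agent.DRingLift.Base
import Groth.Agent.DRingKFlat.QuasiIso
import Groth.Agent.DRingTorAmp.Devissage

/-!
# Lifting a representative of `K ⊗ R/I` to a representative of `K`
-/

universe u

open CategoryTheory Limits HomologicalComplex
open scoped TensorProduct

namespace Groth.Agent.DRingLift

attribute [local instance] HasDerivedCategory.standard

set_option linter.style.haveILetI false

open Groth.Agent.DRingTorAmp

variable {R : Type u} [CommRing R] {I : Ideal R}

theorem isKProjective_of_above {A : Type u} [CommRing A] {P : DRing.Cx A} {b : ℤ} (hb : DRing.VanishesAbove P b)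
    (hP : ∀ i, Module.Projective A (P.X i)) : P.IsKProjective := by
  haveI : P.IsStrictlyLE b := (CochainComplex.isStrictlyLE_iff _ _).2 hb
  haveI : ∀ i, Projective (P.X i) := fun i => (IsProjective.iff_projective (P.X i)).1 (hP i)
  exact CochainComplex.isKProjective_of_projective P b

theorem quasiIso_esc_of_kfl {A B : Type u} [CommRing A] [CommRing B] (φ : A →+* B) {K L : DRing.Cx A}
    (hK : DRingKFlat.IsKFl K) (hL : DRingKFlat.IsKFl L) (f : K ⟶ L) [QuasiIso f] :
    QuasiIso ((escCx φ).map f) :=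
  quasiIso_of_cone_acyclic _ (DRingKFlat.acyclic_of_iso
    (CochainComplex.mappingCone.mapHomologicalComplexIso f (ModuleCat.extendScalars.{u, u, u} φ))
    (acyclic_baseChange φ (DRingKFlat.isKFlat_cone f hK hL) (cone_acyclic_of_quasiIso f)))

theorem isRed_restrict {X M : Type u} [AddCommGroup X] [Module R X] [AddCommGroup M] [Module R M] (π : X →ₗ[R] M)
    (hI : ∀ r ∈ I, ∀ m : M, r • m = 0) (W : Submodule R X) (K : Submodule R M) (hmaps : ∀ w ∈ W, π w ∈ K)
    (honto : ∀ m ∈ K, ∃ w ∈ W, π w = m) (hred : ∀ w ∈ W, π w = 0 → w ∈ I • W) :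
    IsRed I ((π ∘ₗ W.subtype).codRestrict K fun w => hmaps w.1 w.2) := by
  refine ⟨fun ⟨m, hm⟩ => ?_, le_antisymm (fun w hw => ?_) (Submodule.smul_le.2 fun r hr w _ => ?_)⟩
  · obtain ⟨w, hw, rfl⟩ := honto m hm
    exact ⟨⟨w, hw⟩, rfl⟩
  · have := hred w.1 w.2 (congrArg Subtype.val (LinearMap.mem_ker.1 hw))
    have hmap : (I • ⊤ : Submodule R W).map W.subtype = I • W := by
      rw [Submodule.map_smul'', Submodule.map_subtype_top]
    rw [← hmap] at this
    obtain ⟨w', hw', he⟩ := this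
    exact (W.injective_subtype he) ▸ hw'
  · refine LinearMap.mem_ker.2 (Subtype.ext ?_)
    show π (r • w.1) = 0
    rw [map_smul]
    exact hI r hr _

variable {Pc : ObjectProperty (ModuleCat.{u} R)} (hP : LiftClass I Pc)
  (hprod : ∀ X Y : ModuleCat.{u} R, Pc X → Pc Y → Pc (ModuleCat.of R (X × Y)))

include hP hprod in
theorem exists_lift {Q : DRing.Cx R} {c : ℤ} (hQ : DRing.VanishesAbove Q c) (hQp : ∀ i, Pc (Q.X i))
    {E : DRing.Cx (R ⧸ I)} {b : ℤ} (hEb : DRing.VanishesAbove E b)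
    (hEt : ∀ i, ∃ (X : ModuleCat.{u} R) (π : X →ₗ[R] (resI I E).X i), Pc X ∧ IsRed I π)
    (g : (escCx (Ideal.Quotient.mk I)).obj Q ⟶ E) [QuasiIso g] :
    ∃ (P : DRing.Cx R) (b' : ℤ), DRing.VanishesAbove P b' ∧ (∀ i, Pc (P.X i)) ∧
      Nonempty (DRing.toD P ≅ DRing.toD Q) ∧ Nonempty ((escCx (Ideal.Quotient.mk I)).obj P ≅ E) := by
  haveI := hP.iso
  let mk := Ideal.Quotient.mk I
  let E' := resI I E
  have hY : ∀ j : ℤ, ∃ (Y : ModuleCat.{u} R) (π : Y →ₗ[R] E'.X (j - 1)), Pc Y ∧ IsRed I π ∧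
      (b + 1 < j → IsZero Y) := by
    intro j
    obtain ⟨X, π, hX, hπ⟩ := hEt (j - 1)
    by_cases hj : b + 1 < j
    · haveI := ModuleCat.subsingleton_of_isZero (resI_above hEb (j - 1) (by omega))
      haveI : Subsingleton (ModuleCat.of R PUnit.{u + 1}) := inferInstanceAs (Subsingleton PUnit)
      exact ⟨ModuleCat.of R PUnit.{u + 1}, 0, prop_zero hP hX (ModuleCat.isZero_of_subsingleton _),
        isRed_zero _, fun _ => ModuleCat.isZero_of_subsingleton _⟩
    · exact ⟨X, π, hX, hπ, fun h => absurd h hj⟩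
  choose Y π hYp hπ hY0 using hY
  let p : ∀ i, Y (i + 1) →ₗ[R] E'.X i := fun i =>
    (E'.XIsoOfEq (show i + 1 - 1 = i by omega)).hom.hom ∘ₗ π (i + 1)
  have hp : ∀ i, Function.Surjective (p i) := fun i =>
    ((ConcreteCategory.bijective_of_isIso (E'.XIsoOfEq (show i + 1 - 1 = i by omega)).hom).2).comp (hπ (i + 1)).1
  -- the disks
  let C : DRing.Cx R := CochainComplex.of (fun i => ModuleCat.of R (Y (i + 1) × Y i))
    (fun i => ModuleCat.ofHom ((LinearMap.inr R (Y (i + 1 + 1)) (Y (i + 1))) ∘ₗ LinearMap.fst R (Y (i + 1)) (Y i)))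
    (fun i => ModuleCat.hom_ext (LinearMap.ext fun x => rfl))
  let Q₁ : DRing.Cx R := CochainComplex.of (fun i => ModuleCat.of R (Q.X i × (Y (i + 1) × Y i)))
    (fun i => ModuleCat.ofHom ((Q.d i (i + 1)).hom.prodMap
      ((LinearMap.inr R (Y (i + 1 + 1)) (Y (i + 1))) ∘ₗ LinearMap.fst R (Y (i + 1)) (Y i))))
    (fun i => ModuleCat.hom_ext (LinearMap.ext fun x => Prod.ext (by
      show Q.d (i + 1) (i + 1 + 1) (Q.d i (i + 1) x.1) = 0
      rw [← ModuleCat.comp_apply, Q.d_comp_d]; rfl) rfl))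
  have hCd : ∀ i, C.d i (i + 1) = _ := fun i => CochainComplex.of_d (fun i => ModuleCat.of R (Y (i + 1) × Y i))
    (fun i => ModuleCat.ofHom ((LinearMap.inr R (Y (i + 1 + 1)) (Y (i + 1))) ∘ₗ LinearMap.fst R (Y (i + 1)) (Y i))) i
  have hQd : ∀ i, Q₁.d i (i + 1) = _ := fun i => CochainComplex.of_d
    (fun i => ModuleCat.of R (Q.X i × (Y (i + 1) × Y i)))
    (fun i => ModuleCat.ofHom ((Q.d i (i + 1)).hom.prodMap
      ((LinearMap.inr R (Y (i + 1 + 1)) (Y (i + 1))) ∘ₗ LinearMap.fst R (Y (i + 1)) (Y i)))) i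
  have hQ₁p : ∀ i, Pc (Q₁.X i) := fun i =>
    hprod _ (ModuleCat.of R (Y (i + 1) × Y i)) (hQp i) (hprod _ _ (hYp _) (hYp _))
  have hQ₁b : DRing.VanishesAbove Q₁ (max c (b + 1)) := fun i hi => by
    haveI := ModuleCat.subsingleton_of_isZero (hQ i (by omega))
    haveI := ModuleCat.subsingleton_of_isZero (hY0 i (by omega))
    haveI := ModuleCat.subsingleton_of_isZero (hY0 (i + 1) (by omega))
    exact @ModuleCat.isZero_of_subsingleton _ _ (ModuleCat.of R (Q.X i × (Y (i + 1) × Y i))) inferInstance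
  let incl : Q ⟶ Q₁ :=
    { f := fun i => ModuleCat.ofHom (LinearMap.inl R (Q.X i) (Y (i + 1) × Y i))
      comm' := by
        rintro i _ rfl
        rw [hQd]
        exact ModuleCat.hom_ext (LinearMap.ext fun x => Prod.ext rfl rfl) }
  let proj : Q₁ ⟶ Q :=
    { f := fun i => ModuleCat.ofHom (LinearMap.fst R (Q.X i) (Y (i + 1) × Y i))
      comm' := by
        rintro i _ rfl
        rw [hQd]
        exact ModuleCat.hom_ext (LinearMap.ext fun x => rfl) }
  let cin : C ⟶ Q₁ :=
    { f := fun i => ModuleCat.ofHom (LinearMap.inr R (Q.X i) (Y (i + 1) × Y i))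
      comm' := by
        rintro i _ rfl
        rw [hQd, hCd]
        exact ModuleCat.hom_ext (LinearMap.ext fun x => Prod.ext (map_zero (Q.d i (i + 1)).hom) rfl) }
  have hC : C.Acyclic := fun i => by
    obtain ⟨i, rfl⟩ : ∃ k, i = k + 1 := ⟨i - 1, by omega⟩
    rw [exact_d_iff C i (i + 1) (i + 1 + 1) rfl rfl, hCd, hCd]
    rintro ⟨v, y⟩
    constructor
    · intro h
      have hv : v = 0 := congrArg Prod.snd h
      exact ⟨(y, 0), Prod.ext hv.symm rfl⟩
    · rintro ⟨w, hw⟩
      rw [← hw]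
      rfl
  haveI hproj : QuasiIso proj := by
    let S : ShortComplex (DRing.Cx R) := ShortComplex.mk cin proj
      (HomologicalComplex.hom_ext _ _ fun i => ModuleCat.hom_ext (LinearMap.ext fun x => rfl))
    refine DRingKFlat.quasiIso_g_of_acyclic DRingKFlat.upRel_next (S := S)
      (HomologicalComplex.shortExact_of_degreewise_shortExact S fun i => ?_) hC
    refine ShortComplex.ShortExact.mk' ?_ ?_ ?_
    · rw [ShortComplex.ShortExact.moduleCat_exact_iff_function_exact]
      rintro ⟨q, z⟩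
      exact ⟨fun h => ⟨z, Prod.ext h.symm rfl⟩, fun hw => hw.elim fun w hw => (congrArg Prod.fst hw).symm⟩
    · exact (ModuleCat.mono_iff_injective _).2 fun a a' h => congrArg Prod.snd h
    · exact (ModuleCat.epi_iff_surjective _).2 fun q => ⟨(q, 0), rfl⟩
  have hip : incl ≫ proj = 𝟙 Q := HomologicalComplex.hom_ext _ _ fun i => rfl
  haveI : QuasiIso incl := by
    haveI : QuasiIso (incl ≫ proj) := by rw [hip]; infer_instance
    exact quasiIso_of_comp_right incl proj
  -- the map to `E`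
  let g' : Q ⟶ E' := redCx I Q ≫ (DRing.restrictCx mk).map g
  let G : Q₁ ⟶ E' :=
    { f := fun i => ModuleCat.ofHom (X := Q.X i × (Y (i + 1) × Y i)) (Y := E'.X i) ((g'.f i).hom.coprod ((p i).coprod ((E'.d (i - 1) i).hom ∘ₗ π i)))
      comm' := by
        rintro i _ rfl
        rw [hQd]
        refine ModuleCat.hom_ext (LinearMap.ext fun x => ?_)
        obtain ⟨q, v, y⟩ := x
        show E'.d i (i + 1) (g'.f i q + (p i v + E'.d (i - 1) i (π i y))) =
          g'.f (i + 1) (Q.d i (i + 1) q) + (p (i + 1) 0 + E'.d (i + 1 - 1) (i + 1) (π (i + 1) v))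
        have h1 : E'.d i (i + 1) (g'.f i q) = g'.f (i + 1) (Q.d i (i + 1) q) :=
          ConcreteCategory.congr_hom (g'.comm i (i + 1)) q
        have h2 : E'.d i (i + 1) (p i v) = E'.d (i + 1 - 1) (i + 1) (π (i + 1) v) :=
          ConcreteCategory.congr_hom (E'.XIsoOfEq_hom_comp_d (show i + 1 - 1 = i by omega) (i + 1)) (π (i + 1) v)
        have h3 : E'.d i (i + 1) (E'.d (i - 1) i (π i y)) = 0 := by
          rw [← ModuleCat.comp_apply, E'.d_comp_d]; rfl
        rw [map_add, map_add, map_zero (p (i + 1)), zero_add, h1, h2, h3, add_zero] }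
  have hG : ∀ i, Function.Surjective (G.f i) := fun i e => by
    obtain ⟨v, rfl⟩ := hp i e
    refine ⟨((0 : Q.X i), (v, (0 : Y i))), ?_⟩
    show g'.f i (0 : Q.X i) + (p i v + E'.d (i - 1) i (π i 0)) = p i v
    rw [map_zero (g'.f i).hom, map_zero (π i), map_zero (E'.d (i - 1) i).hom, zero_add, add_zero]
  let Gb := liftCx G
  have hGb : (escCx mk).map incl ≫ Gb = g := by
    refine HomologicalComplex.hom_ext _ _ fun i => ModuleCat.hom_ext (LinearMap.ext fun w => ?_)
    letI := mk.toAlgebra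
    obtain ⟨x, rfl⟩ := exists_tmul_one (I := I) (show (R ⧸ I) ⊗[R] Q.X i from w)
    refine ((liftCx_tmul G i _).trans ?_)
    show g'.f i x + (p i 0 + E'.d (i - 1) i (π i 0)) = _
    rw [map_zero (p i), map_zero (π i), map_zero (E'.d (i - 1) i).hom, add_zero, add_zero]
    rfl
  have hQfl : DRingKFlat.IsKFl Q := isKFl_of_flat hQ fun i => haveI := hP.proj _ (hQp i); inferInstance
  have hQ₁fl : DRingKFlat.IsKFl Q₁ := isKFl_of_flat hQ₁b fun i => haveI := hP.proj _ (hQ₁p i); inferInstance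
  haveI := quasiIso_esc_of_kfl mk hQfl hQ₁fl incl
  haveI : QuasiIso ((escCx mk).map incl ≫ Gb) := by rw [hGb]; infer_instance
  haveI : QuasiIso Gb := quasiIso_of_comp_left ((escCx mk).map incl) Gb
  -- the kernel
  let M := resI I ((escCx mk).obj Q₁)
  let Gr : M ⟶ E' := (DRing.restrictCx mk).map Gb
  haveI : QuasiIso Gr := HomologicalComplex.quasiIso_map_of_preservesHomology Gb (ModuleCat.restrictScalars.{u} mk)
  have hGr : ∀ i (x : Q₁.X i), Gr.f i ((redCx I Q₁).f i x) = G.f i x := fun i x => liftCx_tmul G i x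
  have hGrs : ∀ i, Function.Surjective (Gr.f i) := fun i e => (hG i e).elim fun x hx => ⟨_, (hGr i x).trans hx⟩
  let F : DRing.Cx R := CochainComplex.of (fun i => ModuleCat.of R (LinearMap.ker (Gr.f i).hom))
    (fun i => ModuleCat.ofHom ((M.d i (i + 1)).hom.restrict fun x hx => by
      have := ConcreteCategory.congr_hom (Gr.comm i (i + 1)) x
      rw [LinearMap.mem_ker] at hx ⊢
      refine this.symm.trans ?_
      show E'.d i (i + 1) (Gr.f i x) = 0
      rw [show Gr.f i x = 0 from hx, map_zero]))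
    (fun i => ModuleCat.hom_ext (LinearMap.ext fun x => Subtype.ext (by
      show M.d (i + 1) (i + 1 + 1) (M.d i (i + 1) x.1) = 0
      rw [← ModuleCat.comp_apply, M.d_comp_d]; rfl)))
  let ι : F ⟶ M :=
    { f := fun i => ModuleCat.ofHom (Y := M.X i) (LinearMap.ker (Gr.f i).hom).subtype
      comm' := by
        rintro i _ rfl
        refine ModuleCat.hom_ext (LinearMap.ext fun x => ?_)
        show M.d i (i + 1) x.1 = ((F.d i (i + 1)) x).1
        simp only [F, CochainComplex.of_d]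
        rfl }
  have hF : ∀ i, F.ExactAt i := by
    intro i
    let S : ShortComplex (DRing.Cx R) := ShortComplex.mk ι Gr
      (HomologicalComplex.hom_ext _ _ fun j => ModuleCat.hom_ext (LinearMap.ext fun x => x.2))
    have hS : S.ShortExact := HomologicalComplex.shortExact_of_degreewise_shortExact S fun j =>
      ShortComplex.ShortExact.mk'
        ((ShortComplex.ShortExact.moduleCat_exact_iff_function_exact _).2 fun x =>
          ⟨fun h => ⟨⟨x, h⟩, rfl⟩, fun ⟨w, hw⟩ => hw ▸ w.2⟩)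
        ((ModuleCat.mono_iff_injective _).2 (Submodule.injective_subtype _))
        ((ModuleCat.epi_iff_surjective _).2 (hGrs j))
    haveI : QuasiIso S.g := ‹QuasiIso Gr›
    rw [exactAt_iff_isZero_homology]
    refine ((hS.homology_exact₁ (i - 1) i (by simp)).isZero_of_both_zeros ?_ ?_)
    · rw [← cancel_epi (homologyMap S.g (i - 1)), hS.comp_δ, comp_zero]
    · rw [← cancel_mono (homologyMap S.g i), zero_comp, ← homologyMap_comp, S.zero, homologyMap_zero]
  have hFX : ∀ i, ∃ (X : ModuleCat.{u} R) (ρ : X →ₗ[R] F.X i), Pc X ∧ IsRed I ρ ∧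
      ∃ u : Q₁.X i →ₗ[R] X, ∀ x, ((redCx I Q₁).f i x : M.X i) ∈ LinearMap.ker (Gr.f i).hom →
        (ρ (u x)).1 = (redCx I Q₁).f i x := by
    intro i
    obtain ⟨W, q, hW, hq⟩ := hEt i
    obtain ⟨f, hf, hc, hker, honto, hred⟩ := exists_lift_ker hP (hQ₁p i) hW (isRed_redCx Q₁ i) hq (Gr.f i).hom (hGrs i)
    haveI := hP.proj _ hW
    obtain ⟨s, hs⟩ := Module.projective_lifting_property f LinearMap.id hf
    have hs' : ∀ w, f (s w) = w := fun w => LinearMap.congr_fun hs w
    refine ⟨ModuleCat.of R (LinearMap.ker f), ((redCx I Q₁).f i).hom ∘ₗ (LinearMap.ker f).subtype |>.codRestrict _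
      (fun w => ?_), hker, isRed_restrict _ (fun r hr m => smul_eq_zero_of_mem hr m) _ _ (fun w hw => ?_) honto hred,
      (LinearMap.id - s ∘ₗ f).codRestrict _ (fun x => by simp [hs']), fun x hx => ?_⟩
    · exact LinearMap.mem_ker.2 ((hc w.1).symm.trans (by rw [LinearMap.mem_ker.1 w.2, map_zero]))
    · exact LinearMap.mem_ker.2 ((hc w).symm.trans (by rw [LinearMap.mem_ker.1 hw, map_zero]))
    · show (redCx I Q₁).f i (x - s (f x)) = (redCx I Q₁).f i x
      have hfx : f x ∈ I • (⊤ : Submodule R W) := hq.2 ▸ LinearMap.mem_ker.2 ((hc x).trans hx)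
      have hsfx : s (f x) ∈ LinearMap.ker ((redCx I Q₁).f i).hom := by
        rw [(isRed_redCx Q₁ i).2]
        exact Submodule.smul_top_le_comap_smul_top I s hfx
      rw [map_sub, show (redCx I Q₁).f i (s (f x)) = 0 from hsfx, sub_zero]
  have hFb : DRing.VanishesAbove F (max c (b + 1)) := fun i hi => by
    haveI : Subsingleton (M.X i) := ModuleCat.subsingleton_of_isZero
      ((ModuleCat.restrictScalars.{u} mk).map_isZero ((ModuleCat.extendScalars.{u, u, u} mk).map_isZero (hQ₁b i hi)))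
    exact @ModuleCat.isZero_of_subsingleton _ _ (ModuleCat.of R (LinearMap.ker (Gr.f i).hom)) inferInstance
  obtain ⟨PF, ρ, hPFb, hPFa, hPFp, hρ⟩ := exists_acyclic_lift hP F _ hFb hF
    fun i => (hFX i).imp fun X h => h.imp fun r hr => ⟨hr.1, hr.2.1⟩
  -- lift the inclusion
  haveI : ∀ i, Module.Projective R (PF.X i) := fun i => hP.proj _ (hPFp i)
  haveI := isKProjective_of_above hPFb fun i => hP.proj _ (hPFp i)
  let h := CochainComplex.IsKProjective.homotopyZero (𝟙 PF) hPFa
  have hlift : ∀ i, ∃ f : PF.X i ⟶ Q₁.X i, f ≫ (redCx I Q₁).f i = ρ.f i ≫ ι.f i := fun i => by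
    obtain ⟨f, hf⟩ := Module.projective_lifting_property ((redCx I Q₁).f i).hom (ρ.f i ≫ ι.f i).hom (isRed_redCx Q₁ i).1
    exact ⟨ModuleCat.ofHom f, ModuleCat.hom_ext hf⟩
  choose f hf using hlift
  let φ : PF ⟶ Q₁ := Homotopy.nullHomotopicMap fun i j => h.hom i j ≫ f j
  have hφ : φ ≫ redCx I Q₁ = ρ ≫ ι := by
    have h1 : Homotopy.nullHomotopicMap h.hom = 𝟙 PF := HomologicalComplex.hom_ext _ _ fun i => by
      have := h.comm i
      rw [HomologicalComplex.zero_f, add_zero] at this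
      exact this.symm
    rw [Homotopy.nullHomotopicMap_comp]
    simp only [Category.assoc, hf]
    exact (Homotopy.nullHomotopicMap_comp h.hom (ρ ≫ ι)).symm.trans
      ((congrArg (· ≫ (ρ ≫ ι)) h1).trans (Category.id_comp _))
  have hφ' : ∀ i x, (redCx I Q₁).f i (φ.f i x) = (ρ.f i x).1 := fun i x =>
    ConcreteCategory.congr_hom (congrArg (fun k => Hom.f k i) hφ) x
  have hret : ∀ i, ∃ r : Q₁.X i →ₗ[R] PF.X i, ∀ x, r (φ.f i x) = x := by
    intro i
    obtain ⟨X, r₀, hX, hr₀, u, hu⟩ := hFX i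
    haveI := hP.proj X hX
    obtain ⟨v, hv⟩ := Module.projective_lifting_property (ρ.f i).hom r₀ (hρ i).1
    have hred : ∀ x, (ρ.f i) (v (u (φ.f i x))) = ρ.f i x := fun x => Subtype.ext <| by
      refine (congrArg Subtype.val (LinearMap.congr_fun hv _)).trans ((hu _ ?_).trans (hφ' i x))
      rw [hφ']
      exact (ρ.f i x).2
    let θ : PF.X i →ₗ[R] PF.X i := v ∘ₗ u ∘ₗ (φ.f i).hom
    have hsur : ∀ θ' : PF.X i →ₗ[R] PF.X i, (∀ x, (ρ.f i) (θ' x) = ρ.f i x) → Function.Surjective θ' :=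
      fun θ' hθ => hP.surj _ _ (ModuleCat.ofHom θ') (hPFp i) (hPFp i)
        ((hρ i).range_sup θ' ((funext hθ : ⇑((ρ.f i).hom ∘ₗ θ') = ⇑(ρ.f i).hom) ▸ (hρ i).1))
    obtain ⟨t, ht⟩ := Module.projective_lifting_property θ LinearMap.id (hsur θ hred)
    have ht' : ∀ x, θ (t x) = x := fun x => LinearMap.congr_fun ht x
    have htsur := hsur t fun x => by
      have := hred (t x)
      rw [show v (u (φ.f i (t x))) = x from ht' x] at this
      exact this.symm
    refine ⟨t ∘ₗ v ∘ₗ u, fun x => ?_⟩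
    obtain ⟨y, rfl⟩ := htsur x
    exact congrArg t (ht' y)
  choose r hr using hret
  have hrange : ∀ i, LinearMap.range (φ.f i).hom ≤ LinearMap.ker (G.f i).hom := by
    rintro i _ ⟨x, rfl⟩
    refine LinearMap.mem_ker.2 ?_
    show G.f i (φ.f i x) = 0
    rw [← hGr, hφ']
    exact (ρ.f i x).2
  have hcomm : ∀ i, LinearMap.range (φ.f i).hom ≤ (LinearMap.range (φ.f (i + 1)).hom).comap (Q₁.d i (i + 1)).hom := by
    rintro i _ ⟨x, rfl⟩
    exact ⟨PF.d i (i + 1) x, (ConcreteCategory.congr_hom (φ.comm i (i + 1)) x).symm⟩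
  let P : DRing.Cx R := CochainComplex.of (fun i => ModuleCat.of R (Q₁.X i ⧸ LinearMap.range (φ.f i).hom))
    (fun i => ModuleCat.ofHom (Submodule.mapQ _ _ (Q₁.d i (i + 1)).hom (hcomm i)))
    (fun i => ModuleCat.hom_ext (LinearMap.ext fun x => by
      obtain ⟨x, rfl⟩ := Submodule.mkQ_surjective _ x
      show Submodule.Quotient.mk (Q₁.d (i + 1) (i + 1 + 1) (Q₁.d i (i + 1) x)) = _
      rw [← ModuleCat.comp_apply, Q₁.d_comp_d]
      rfl))
  let πP : Q₁ ⟶ P :=
    { f := fun i => ModuleCat.ofHom (Submodule.mkQ _)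
      comm' := by
        rintro i _ rfl
        simp only [P, CochainComplex.of_d]
        rfl }
  have hPp : ∀ i, Pc (P.X i) := fun i => by
    let e : Q₁.X i →ₗ[R] PF.X i × (Q₁.X i ⧸ LinearMap.range (φ.f i).hom) := (r i).prod (Submodule.mkQ _)
    have he : Function.Bijective e := by
      refine ⟨(injective_iff_map_eq_zero e).2 fun x hx => ?_, fun ⟨a, y⟩ => ?_⟩
      · obtain ⟨y, rfl⟩ := (Submodule.Quotient.mk_eq_zero _).1 (congrArg Prod.snd hx)
        have : r i (φ.f i y) = 0 := congrArg Prod.fst hx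
        rw [hr] at this
        rw [this, map_zero]
      · obtain ⟨x, rfl⟩ := Submodule.mkQ_surjective _ y
        refine ⟨x - φ.f i (r i x) + φ.f i a, Prod.ext ?_ ?_⟩
        · show r i (x - φ.f i (r i x) + φ.f i a) = a
          rw [map_add, map_sub, hr, hr, sub_self, zero_add]
        · refine (Submodule.Quotient.eq _).2 ⟨a - r i x, ?_⟩
          show φ.f i (a - r i x) = x - φ.f i (r i x) + φ.f i a - x
          rw [map_sub]
          abel
    exact hP.cancel _ _ (hPFp i) (Pc.prop_of_iso (LinearEquiv.ofBijective e he).toModuleIso (hQ₁p i))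
  let GP : P ⟶ E' :=
    { f := fun i => ModuleCat.ofHom (Y := E'.X i) (Submodule.liftQ _ (G.f i).hom (hrange i))
      comm' := by
        rintro i _ rfl
        simp only [P, CochainComplex.of_d]
        refine ModuleCat.hom_ext (LinearMap.ext fun x => ?_)
        obtain ⟨x, rfl⟩ := Submodule.mkQ_surjective _ x
        exact ConcreteCategory.congr_hom (G.comm i (i + 1)) x }
  have hGP : ∀ i, IsRed I (GP.f i).hom := fun i => by
    refine ⟨fun e => (hG i e).elim fun x hx => ⟨Submodule.Quotient.mk x, hx⟩,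
      le_antisymm (fun y hy => ?_) (smul_top_le_ker _)⟩
    obtain ⟨x, rfl⟩ := Submodule.mkQ_surjective _ y
    obtain ⟨z, hz⟩ := (hρ i).1 ⟨(redCx I Q₁).f i x, LinearMap.mem_ker.2 ((hGr i x).trans (LinearMap.mem_ker.1 hy))⟩
    have hx : x - φ.f i z ∈ I • (⊤ : Submodule R (Q₁.X i)) := by
      rw [← (isRed_redCx Q₁ i).2, LinearMap.mem_ker]
      show (redCx I Q₁).f i (x - φ.f i z) = 0
      rw [map_sub, hφ', sub_eq_zero]
      exact (congrArg Subtype.val hz).symm
    have : Submodule.mkQ (LinearMap.range (φ.f i).hom) x = Submodule.mkQ _ (x - φ.f i z) :=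
      (Submodule.Quotient.eq _).2 ⟨z, by rw [sub_sub_cancel]⟩
    rw [this]
    exact Submodule.smul_top_le_comap_smul_top I _ hx
  haveI : QuasiIso πP := by
    let S : ShortComplex (DRing.Cx R) := ShortComplex.mk φ πP
      (HomologicalComplex.hom_ext _ _ fun i => ModuleCat.hom_ext (LinearMap.ext fun x =>
        (Submodule.Quotient.mk_eq_zero _).2 (LinearMap.mem_range_self _ x)))
    exact DRingKFlat.quasiIso_g_of_acyclic DRingKFlat.upRel_next (S := S)
      (HomologicalComplex.shortExact_of_degreewise_shortExact S fun i =>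
        ShortComplex.ShortExact.mk'
          ((ShortComplex.ShortExact.moduleCat_exact_iff_function_exact _).2 fun x => Submodule.Quotient.mk_eq_zero _)
          ((ModuleCat.mono_iff_injective _).2 (Function.LeftInverse.injective (hr i)))
          ((ModuleCat.epi_iff_surjective _).2 (Submodule.mkQ_surjective _))) hPFa
  haveI : IsIso (DerivedCategory.Q.map πP) := (DerivedCategory.isIso_Q_map_iff_quasiIso _ _).2 inferInstance
  haveI : IsIso (DerivedCategory.Q.map proj) := (DerivedCategory.isIso_Q_map_iff_quasiIso _ _).2 inferInstance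
  refine ⟨P, max c (b + 1), fun i hi => ?_, hPp,
    ⟨(asIso (DerivedCategory.Q.map πP)).symm ≪≫ asIso (DerivedCategory.Q.map proj)⟩, exists_red_iso GP hGP⟩
  haveI := ModuleCat.subsingleton_of_isZero (hQ₁b i hi)
  exact @ModuleCat.isZero_of_subsingleton _ _ (ModuleCat.of R (Q₁.X i ⧸ LinearMap.range (φ.f i).hom)) inferInstance

end Groth.Agent.DRingLift
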