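import Groth.Agent.DRingLift.Free
import Groth.Agent.DRingKProj.ConeElem

/-!
# Minimal complexes over a local ring
-/

universe u

open CategoryTheory Limits HomologicalComplex
open scoped TensorProduct

namespace Groth.Agent.DRingLift

attribute [local instance] HasDerivedCategory.standard

set_option linter.style.haveILetI false

open Groth.Agent.DRingTorAmp

section Field

variable {k : Type u} [Field k]

/-- Homology of a complex with zero differential. -/
theorem nonempty_homologyIso_of_zero (W : DRing.Cx k) (hW : ∀ i j, W.d i j = 0) (i : ℤ) :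
    Nonempty (Dual.HD k (DRing.toD W) i ≃ₗ[k] W.X i) :=
  ⟨(((DerivedCategory.homologyFunctorFactors (ModuleCat.{u} k) i).app W) ≪≫
    (ShortComplex.LeftHomologyData.ofZeros (W.sc i) (hW _ _) (hW _ _)).homologyIso).toLinearEquiv⟩

/-- Over a field a complex receives a quasi-isomorphism from a subcomplex with zero differential. -/
theorem exists_zero_diff (C : DRing.Cx k) :
    ∃ (W : DRing.Cx k) (ι : W ⟶ C), (∀ i j, W.d i j = 0) ∧ (∀ i, Function.Injective (ι.f i)) ∧ QuasiIso ι := by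
  have h : ∀ i : ℤ, ∃ U : Submodule k (C.X i), U ≤ LinearMap.ker (C.d i (i + 1)).hom ∧
      U ⊓ LinearMap.range (C.d (i - 1) i).hom = ⊥ ∧
      LinearMap.ker (C.d i (i + 1)).hom ≤ U ⊔ LinearMap.range (C.d (i - 1) i).hom := by
    intro i
    obtain ⟨U', hU'⟩ := Submodule.exists_isCompl (LinearMap.range (C.d (i - 1) i).hom)
    have hle : LinearMap.range (C.d (i - 1) i).hom ≤ LinearMap.ker (C.d i (i + 1)).hom := by
      rintro _ ⟨x, rfl⟩
      refine LinearMap.mem_ker.2 ?_
      rw [← ModuleCat.comp_apply, C.d_comp_d]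
      rfl
    refine ⟨U' ⊓ LinearMap.ker (C.d i (i + 1)).hom, inf_le_right, le_bot_iff.1 ?_, fun x hx => ?_⟩
    · exact (inf_le_inf_right _ inf_le_left).trans hU'.symm.disjoint.le_bot
    · obtain ⟨b, hb, u, hu, rfl⟩ := Submodule.mem_sup.1 (hU'.sup_eq_top.ge (Submodule.mem_top (x := x)))
      refine Submodule.mem_sup.2 ⟨u, ⟨hu, ?_⟩, b, hb, add_comm u b⟩
      have := Submodule.sub_mem _ hx (hle hb)
      rwa [add_sub_cancel_left] at this
  choose U hU hinf hsup using h
  let W : DRing.Cx k := CochainComplex.of (fun i => ModuleCat.of k (U i)) (fun _ => 0) (fun _ => zero_comp)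
  have hW : ∀ i j, W.d i j = 0 := fun i j => by
    by_cases h : i + 1 = j
    · subst h
      exact CochainComplex.of_d (fun i => ModuleCat.of k (U i)) (fun _ => 0) i
    · exact W.shape i j h
  let ι : W ⟶ C :=
    { f := fun i => ModuleCat.ofHom (U i).subtype
      comm' := by
        rintro i _ rfl
        rw [hW]
        refine ModuleCat.hom_ext (LinearMap.ext fun x => ?_)
        show C.d i (i + 1) x.1 = (0 : C.X (i + 1))
        exact hU i x.2 }
  let Z : DRing.Cx k := CochainComplex.of (fun i => ModuleCat.of k (C.X i ⧸ U i))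
    (fun i => ModuleCat.ofHom (Submodule.mapQ _ _ (C.d i (i + 1)).hom fun x hx => by
      rw [Submodule.mem_comap, LinearMap.mem_ker.1 (hU i hx)]
      exact zero_mem _))
    (fun i => ModuleCat.hom_ext (LinearMap.ext fun x => by
      obtain ⟨x, rfl⟩ := Submodule.mkQ_surjective _ x
      show Submodule.Quotient.mk (C.d (i + 1) (i + 1 + 1) (C.d i (i + 1) x)) = _
      rw [← ModuleCat.comp_apply, C.d_comp_d]
      rfl))
  have hZd : ∀ i (x : C.X i), Z.d i (i + 1) (Submodule.Quotient.mk x) = Submodule.Quotient.mk (C.d i (i + 1) x) := by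
    intro i x
    simp only [Z, CochainComplex.of_d]
    rfl
  let π : C ⟶ Z :=
    { f := fun i => ModuleCat.ofHom (Submodule.mkQ _)
      comm' := by
        rintro i _ rfl
        exact ModuleCat.hom_ext (LinearMap.ext fun x => hZd i x) }
  have hZ : Z.Acyclic := fun i => by
    obtain ⟨i, rfl⟩ : ∃ j, i = j + 1 := ⟨i - 1, by omega⟩
    rw [exact_d_iff Z i (i + 1) (i + 1 + 1) rfl rfl]
    intro y
    obtain ⟨x, rfl⟩ := Submodule.mkQ_surjective _ y
    constructor
    · intro h
      have hm : C.d (i + 1) (i + 1 + 1) x ∈ U (i + 1 + 1) := (Submodule.Quotient.mk_eq_zero _).1 ((hZd _ x).symm.trans h)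
      have h0 : C.d (i + 1) (i + 1 + 1) x = 0 :=
        (Submodule.mem_bot k).1 ((hinf (i + 1 + 1)).le ⟨hm, by
          rw [show i + 1 + 1 - 1 = i + 1 by omega]
          exact ⟨x, rfl⟩⟩)
      obtain ⟨w, hw, b, hb, hwb⟩ := Submodule.mem_sup.1 (hsup (i + 1) (LinearMap.mem_ker.2 h0))
      rw [show i + 1 - 1 = i by omega] at hb
      obtain ⟨z, rfl⟩ := hb
      refine ⟨Submodule.Quotient.mk z, (hZd i z).trans ((Submodule.Quotient.eq _).2 ?_)⟩
      rw [← hwb, show C.d i (i + 1) z - (w + (C.d i (i + 1)).hom z) = -w by abel]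
      exact neg_mem hw
    · rintro ⟨z, hz⟩
      obtain ⟨z, rfl⟩ := Submodule.mkQ_surjective _ z
      rw [← hz]
      show Z.d (i + 1) (i + 1 + 1) (Z.d i (i + 1) _) = 0
      rw [← ModuleCat.comp_apply, Z.d_comp_d]
      rfl
  refine ⟨W, ι, hW, fun i => (U i).injective_subtype, ?_⟩
  let S : ShortComplex (DRing.Cx k) := ShortComplex.mk ι π
    (HomologicalComplex.hom_ext _ _ fun i => ModuleCat.hom_ext (LinearMap.ext fun x =>
      (Submodule.Quotient.mk_eq_zero _).2 x.2))
  exact DRingKFlat.quasiIso_f_of_acyclic DRingKFlat.upRel_prev (S := S)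
    (HomologicalComplex.shortExact_of_degreewise_shortExact S fun i =>
      ShortComplex.ShortExact.mk'
        ((ShortComplex.ShortExact.moduleCat_exact_iff_function_exact _).2 fun x =>
          ⟨fun h => ⟨⟨x, (Submodule.Quotient.mk_eq_zero _).1 h⟩, rfl⟩,
            fun hw => hw.elim fun w hw => (Submodule.Quotient.mk_eq_zero _).2 (hw ▸ w.2)⟩)
        ((ModuleCat.mono_iff_injective _).2 (U i).injective_subtype)
        ((ModuleCat.epi_iff_surjective _).2 (Submodule.mkQ_surjective _))) hZ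

/-- Dimensions equal to those of the homology force the differential to vanish. -/
theorem d_eq_zero_of_finrank {C : DRing.Cx k} (hf : ∀ i, Module.Finite k (C.X i))
    (h : ∀ i, Module.finrank k (C.X i) = Module.finrank k (Dual.HD k (DRing.toD C) i)) (i j : ℤ) : C.d i j = 0 := by
  obtain ⟨W, ι, hW, hι, hq⟩ := exists_zero_diff C
  haveI : IsIso (DerivedCategory.Q.map ι) := (DerivedCategory.isIso_Q_map_iff_quasiIso _ ι).2 hq
  haveI := hf i
  obtain ⟨e⟩ := nonempty_homologyIso_of_zero W hW i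
  haveI : Module.Finite k (W.X i) := Module.Finite.of_injective (ι.f i).hom (hι i)
  have hd : Module.finrank k (W.X i) = Module.finrank k (C.X i) := (h i).symm ▸ e.finrank_eq.symm.trans
    (((DerivedCategory.homologyFunctor (ModuleCat.{u} k) i).mapIso
      (asIso (DerivedCategory.Q.map ι))).toLinearEquiv.finrank_eq)
  refine ModuleCat.hom_ext (LinearMap.ext fun x => ?_)
  obtain ⟨w, rfl⟩ := (LinearMap.injective_iff_surjective_of_finrank_eq_finrank hd).1 (hι i) x
  refine (ConcreteCategory.congr_hom (ι.comm i j) w).trans ?_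
  show ι.f j (W.d i j w) = (0 : C.X j)
  rw [hW]
  exact map_zero (ι.f j).hom

/-- A quasi-isomorphism between complexes with zero differential is bijective. -/
theorem bijective_of_quasiIso {C D : DRing.Cx k} (f : C ⟶ D) [QuasiIso f] (hC : ∀ i j, C.d i j = 0)
    (hD : ∀ i j, D.d i j = 0) (i : ℤ) : Function.Bijective (f.f i) := by
  have hac := cone_acyclic_of_quasiIso f
  have key : ∀ n (c : (CochainComplex.mappingCone f).X n), (CochainComplex.mappingCone f).d n (n + 1) c = 0 →
      ∃ z : C.X n, DRingKProj.cfst f n (n + 1) rfl c = 0 ∧ DRingKProj.csnd f n c = f.f n z := by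
    intro n c hc
    obtain ⟨w, rfl⟩ := ((exact_d_iff _ (n - 1) n (n + 1) (by omega) rfl).1 (hac n) c).1 hc
    refine ⟨DRingKProj.cfst f (n - 1) n (by omega) w, ?_, ?_⟩
    · refine (DRingKProj.cfst_d f (n - 1) n (n + 1) (by omega) rfl w).trans ?_
      rw [hC]
      exact neg_zero
    · refine (DRingKProj.csnd_d f (n - 1) n (by omega) w).trans ?_
      rw [hD]
      exact add_zero _
  refine ⟨(injective_iff_map_eq_zero (f.f i).hom).2 fun x hx => ?_, fun y => ?_⟩
  · obtain ⟨m, rfl⟩ : ∃ m, i = m + 1 := ⟨i - 1, by omega⟩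
    obtain ⟨z, h1, -⟩ := key m (DRingKProj.cmk f m (m + 1) rfl x 0) ((DRingKProj.cone_d_eq_zero_iff f _ _ rfl _).2
      ⟨by rw [hC]; rfl, by rw [DRingKProj.cfst_cmk, DRingKProj.csnd_cmk, map_zero, add_zero]; exact hx⟩)
    exact (DRingKProj.cfst_cmk f m (m + 1) rfl x 0).symm.trans h1
  · obtain ⟨z, -, h2⟩ := key i (DRingKProj.cmk f i (i + 1) rfl 0 y) ((DRingKProj.cone_d_eq_zero_iff f _ _ rfl _).2
      ⟨by rw [hC]; rfl, by rw [DRingKProj.cfst_cmk, DRingKProj.csnd_cmk, map_zero, hD]; exact add_zero _⟩)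
    exact ⟨z, h2.symm.trans (DRingKProj.csnd_cmk f i (i + 1) rfl 0 y)⟩

end Field

theorem finite_extend {A B : Type u} [CommRing A] [CommRing B] (φ : A →+* B) (X : ModuleCat.{u} A)
    [Module.Finite A X] : Module.Finite B ((ModuleCat.extendScalars.{u, u, u} φ).obj X) := by
  letI := φ.toAlgebra
  exact inferInstanceAs (Module.Finite B (B ⊗[A] X))

section Local

variable {R : Type u} [CommRing R] [IsLocalRing R]

local notation "𝔪" => IsLocalRing.maximalIdeal R

theorem finrank_esc {P : DRing.Cx R} (i : ℤ) [Module.Free R (P.X i)] :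
    Module.finrank (R ⧸ 𝔪) (((escCx (Ideal.Quotient.mk 𝔪)).obj P).X i) = Module.finrank R (P.X i) := by
  letI := (Ideal.Quotient.mk 𝔪).toAlgebra
  haveI : Nontrivial (R ⧸ 𝔪) := Ideal.Quotient.nontrivial_iff.2 (Ideal.IsPrime.ne_top inferInstance)
  exact Module.finrank_baseChange (R := R ⧸ 𝔪) (S := R) (M' := P.X i)

theorem finite_esc {P : DRing.Cx R} (i : ℤ) [Module.Finite R (P.X i)] :
    Module.Finite (R ⧸ 𝔪) (((escCx (Ideal.Quotient.mk 𝔪)).obj P).X i) := by
  exact finite_extend (Ideal.Quotient.mk 𝔪) (P.X i)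

theorem minimal [DRing.HasLBaseChange (Ideal.Quotient.mk 𝔪)] (K : Dual.D R) (hK : DRing.IsPseudoCoherent' R K) :
    let Kκ := (DRing.LBaseChange (Ideal.Quotient.mk 𝔪)).obj K
    let Minimal := fun P : DRing.Cx R => (∃ b : ℤ, DRing.VanishesAbove P b) ∧
      (∀ i : ℤ, Module.Free R (P.X i) ∧ Module.Finite R (P.X i) ∧
        Module.finrank R (P.X i) = Module.finrank (R ⧸ 𝔪) (Dual.HD (R ⧸ 𝔪) Kκ i)) ∧ Nonempty (DRing.toD P ≅ K)
    (∀ i : ℤ, Module.Finite (R ⧸ 𝔪) (Dual.HD (R ⧸ 𝔪) Kκ i)) ∧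
      (∃ b : ℤ, ∀ i : ℤ, b < i → Subsingleton (Dual.HD (R ⧸ 𝔪) Kκ i)) ∧
      (∃ P : DRing.Cx R, Minimal P) ∧ ∀ P Q : DRing.Cx R, Minimal P → Minimal Q → Nonempty (P ≅ Q) := by
  intro Kκ Minimal
  letI := Ideal.Quotient.field 𝔪
  let mk := Ideal.Quotient.mk 𝔪
  have hI : 𝔪 ≤ Ideal.jacobson (⊥ : Ideal R) := (IsLocalRing.jacobson_eq_maximalIdeal ⊥ bot_ne_top).ge
  have hesc : ∀ {P : DRing.Cx R} {b : ℤ}, DRing.VanishesAbove P b → (∀ i, Module.Flat R (P.X i)) →
      (DRing.toD P ≅ K) → Nonempty (DRing.toD ((escCx mk).obj P) ≅ Kκ) := fun hb hf e =>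
    (exists_lBaseChange_iso mk (isKFl_of_flat hb hf)).map fun e' =>
      e'.symm ≪≫ (DRing.LBaseChange mk).mapIso e
  obtain ⟨Q₀, c, hQ, hQp, ⟨eQ⟩⟩ := hK
  have hQf : ∀ i, finFree R (Q₀.X i) := hQp
  obtain ⟨e₀⟩ := hesc hQ (fun i => haveI := (hQp i).2; inferInstance) eQ
  obtain ⟨W, ι, hW, hι, hιq⟩ := exists_zero_diff ((escCx mk).obj Q₀)
  haveI := hιq
  haveI : IsIso (DerivedCategory.Q.map ι) := (DerivedCategory.isIso_Q_map_iff_quasiIso _ ι).2 hιq
  let eW : DRing.toD W ≅ Kκ := asIso (DerivedCategory.Q.map ι) ≪≫ e₀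
  have hWf : ∀ i, Module.Finite (R ⧸ 𝔪) (W.X i) := fun i =>
    haveI := (hQp i).1
    haveI := finite_esc (P := Q₀) i
    Module.Finite.of_injective (ι.f i).hom (hι i)
  have hWH : ∀ i, Nonempty (Dual.HD (R ⧸ 𝔪) Kκ i ≃ₗ[R ⧸ 𝔪] W.X i) := fun i =>
    (nonempty_homologyIso_of_zero W hW i).map fun e =>
      ((DerivedCategory.homologyFunctor (ModuleCat.{u} (R ⧸ 𝔪)) i).mapIso eW.symm).toLinearEquiv.trans e
  have hWb : DRing.VanishesAbove W c := fun i hi => by
    haveI : Subsingleton (((escCx mk).obj Q₀).X i) :=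
      ModuleCat.subsingleton_of_isZero ((ModuleCat.extendScalars.{u, u, u} mk).map_isZero (hQ i hi))
    haveI : Subsingleton (W.X i) := (hι i).subsingleton
    exact ModuleCat.isZero_of_subsingleton _
  refine ⟨fun i => (hWH i).elim fun e => haveI := hWf i; Module.Finite.equiv e.symm,
    ⟨c, fun i hi => (hWH i).elim fun e => haveI := ModuleCat.subsingleton_of_isZero (hWb i hi); e.toEquiv.subsingleton⟩,
    ?_, fun P P' hP hP' => ?_⟩
  · obtain ⟨P, b', hPb, hPp, hPK, ⟨e⟩⟩ := exists_lift_of_iso (finFree_liftClass hI)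
      (fun X Y hX hY => by
        haveI := hX.1; haveI := hX.2; haveI := hY.1; haveI := hY.2
        exact ⟨inferInstanceAs (Module.Finite R (X × Y)), inferInstanceAs (Module.Free R (X × Y))⟩)
      K hQ hQf eQ hWb (fun i => by
        haveI := hWf i
        let b := (Module.Free.chooseBasis (R ⧸ 𝔪) (W.X i)).repr
        let π : (Module.Free.ChooseBasisIndex (R ⧸ 𝔪) (W.X i) →₀ R) →ₗ[R] (resI 𝔪 W).X i :=
          { toFun := fun w => (show (resI 𝔪 W).X i from b.symm (finsuppRed 𝔪 _ w))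
            map_add' := fun x y => by
              show b.symm (finsuppRed 𝔪 _ (x + y)) = _
              rw [map_add, map_add]
              rfl
            map_smul' := fun r x => by
              show b.symm (finsuppRed 𝔪 _ (r • x)) = Ideal.Quotient.mk 𝔪 r • b.symm (finsuppRed 𝔪 _ x)
              rw [map_smul, ← algebraMap_smul (R ⧸ 𝔪) r (finsuppRed 𝔪 _ x), map_smul]
              rfl }
        refine ⟨ModuleCat.of R (Module.Free.ChooseBasisIndex (R ⧸ 𝔪) (W.X i) →₀ R), π,
          ⟨inferInstanceAs (Module.Finite R (_ →₀ R)), inferInstanceAs (Module.Free R (_ →₀ R))⟩,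
          b.symm.surjective.comp (isRed_finsuppRed _).1, le_antisymm (fun x hx => ?_) (smul_top_le_ker π)⟩
        rw [← (isRed_finsuppRed (I := 𝔪) _).2, LinearMap.mem_ker]
        exact b.symm.map_eq_zero_iff.1 hx)
      ⟨eW⟩
    refine ⟨P, ⟨b', hPb⟩, fun i => ⟨(hPp i).2, (hPp i).1, ?_⟩, hPK⟩
    haveI := (hPp i).2
    obtain ⟨eH⟩ := hWH i
    exact (finrank_esc (P := P) i).symm.trans
      ((((HomologicalComplex.eval _ _ i).mapIso e).toLinearEquiv.finrank_eq).trans eH.finrank_eq.symm)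
  · obtain ⟨⟨b, hb⟩, hp, ⟨eP⟩⟩ := hP
    obtain ⟨⟨b₂, hb₂⟩, hp₂, ⟨eP'⟩⟩ := hP'
    have zero : ∀ {P : DRing.Cx R} {b : ℤ}, DRing.VanishesAbove P b →
        (∀ i : ℤ, Module.Free R (P.X i) ∧ Module.Finite R (P.X i) ∧
          Module.finrank R (P.X i) = Module.finrank (R ⧸ 𝔪) (Dual.HD (R ⧸ 𝔪) Kκ i)) → (DRing.toD P ≅ K) →
        ∀ i j, ((escCx mk).obj P).d i j = 0 := by
      intro P b hb hp eP
      obtain ⟨e⟩ := hesc hb (fun i => haveI := (hp i).1; inferInstance) eP
      refine d_eq_zero_of_finrank (fun i => haveI := (hp i).2.1; finite_esc i) fun i => ?_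
      haveI := (hp i).1
      exact (finrank_esc i).trans ((hp i).2.2.trans
        ((DerivedCategory.homologyFunctor (ModuleCat.{u} (R ⧸ 𝔪)) i).mapIso e).toLinearEquiv.finrank_eq.symm)
    have hproj : ∀ i, Module.Projective R (P.X i) := fun i => haveI := (hp i).1; inferInstance
    have hproj' : ∀ i, Module.Projective R (P'.X i) := fun i => haveI := (hp₂ i).1; inferInstance
    haveI := isKProjective_of_above hb hproj
    obtain ⟨f, hf⟩ := PCExt.Q_map_surjective_of_isKProjective P P' (eP ≪≫ eP'.symm).hom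
    haveI : IsIso (DerivedCategory.Q.map f) := by
      rw [show DerivedCategory.Q.map f = _ from hf]; infer_instance
    haveI : QuasiIso f := (DerivedCategory.isIso_Q_map_iff_quasiIso _ f).1 inferInstance
    haveI := quasiIso_esc_of_kfl mk (isKFl_of_flat hb fun i => haveI := hproj i; inferInstance)
      (isKFl_of_flat hb₂ fun i => haveI := hproj' i; inferInstance) f
    have hbij := bijective_of_quasiIso ((escCx mk).map f) (zero hb hp eP) (zero hb₂ hp₂ eP')
    haveI : ∀ i, IsIso (f.f i) := fun i => by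
      rw [ConcreteCategory.isIso_iff_bijective]
      haveI := (hp i).1
      haveI := (hp i).2.1
      haveI := (hp₂ i).1
      haveI := (hp₂ i).2.1
      have hsq : ∀ x, ((escCx mk).map f).f i ((redCx 𝔪 P).f i x) = (redCx 𝔪 P').f i (f.f i x) := fun x => rfl
      have hsur : Function.Surjective (f.f i) := surjective_of_finite hI (f.f i).hom ((isRed_redCx P' i).range_sup
        (f.f i).hom fun y => by
          obtain ⟨z, hz⟩ := (hbij i).2 y
          obtain ⟨x, rfl⟩ := (isRed_redCx P i).1 z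
          exact ⟨x, (hsq x).symm.trans hz⟩)
      refine ⟨?_, hsur⟩
      have hd : Module.finrank R (P.X i) = Module.finrank R (P'.X i) := ((hp i).2.2).trans (hp₂ i).2.2.symm
      let eqv : P.X i ≃ₗ[R] P'.X i := LinearEquiv.ofFinrankEq _ _ hd
      exact Function.Injective.of_comp (f := eqv.symm) (OrzechProperty.injective_of_surjective_endomorphism
        (eqv.symm.toLinearMap ∘ₗ (f.f i).hom) (eqv.symm.surjective.comp hsur))
    haveI := HomologicalComplex.Hom.isIso_of_components f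
    exact ⟨asIso f⟩

end Local

end Groth.Agent.DRingLift
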