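import Groth.Agent.DRingTorAmp.Criterion
import Mathlib.LinearAlgebra.Projection
import Mathlib.RingTheory.Ideal.Maps

/-!
# Lifting acyclic complexes from `R/I` to `R`

A map `π : X → M` is a reduction modulo `I` when it is surjective with kernel `I X`.
-/

universe u

open CategoryTheory Limits

namespace Groth.Agent.DRingLift

set_option linter.style.haveILetI false

variable {R : Type u} [CommRing R] (I : Ideal R)

/-- `π` identifies `M` with `X/IX`. -/
def IsRed {X M : Type u} [AddCommGroup X] [Module R X] [AddCommGroup M] [Module R M] (π : X →ₗ[R] M) : Prop :=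
  Function.Surjective π ∧ LinearMap.ker π = I • (⊤ : Submodule R X)

variable {I}

theorem IsRed.range_sup {X W N : Type u} [AddCommGroup X] [Module R X] [AddCommGroup W] [Module R W]
    [AddCommGroup N] [Module R N] {q : W →ₗ[R] N} (hq : IsRed I q) (f : X →ₗ[R] W)
    (hf : Function.Surjective (q ∘ₗ f)) : LinearMap.range f ⊔ I • (⊤ : Submodule R W) = ⊤ := by
  refine eq_top_iff.2 fun w _ => ?_
  obtain ⟨x, hx⟩ := hf (q w)
  refine Submodule.mem_sup.2 ⟨f x, ⟨x, rfl⟩, w - f x, ?_, by abel⟩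
  rw [← hq.2, LinearMap.mem_ker, map_sub, sub_eq_zero]
  exact hx.symm

/-- The classes of modules along which reduction is lifted. -/
structure LiftClass (I : Ideal R) (Pc : ObjectProperty (ModuleCat.{u} R)) : Prop where
  iso : Pc.IsClosedUnderIsomorphisms
  proj : ∀ X : ModuleCat.{u} R, Pc X → Module.Projective R X
  cancel : ∀ X Y : ModuleCat.{u} R, Pc X → Pc (ModuleCat.of R (X × Y)) → Pc Y
  surj : ∀ (X Y : ModuleCat.{u} R) (f : X ⟶ Y), Pc X → Pc Y →
    LinearMap.range f.hom ⊔ I • (⊤ : Submodule R Y) = ⊤ → Function.Surjective f.hom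

variable {Pc : ObjectProperty (ModuleCat.{u} R)} (hP : LiftClass I Pc)

theorem ker_equiv {X W : Type u} [AddCommGroup X] [Module R X] [AddCommGroup W] [Module R W] (f : X →ₗ[R] W)
    (s : W →ₗ[R] X) (hs : f ∘ₗ s = LinearMap.id) : Nonempty (X ≃ₗ[R] W × LinearMap.ker f) := by
  have h : ∀ w, f (s w) = w := fun w => LinearMap.congr_fun hs w
  let r : X →ₗ[R] LinearMap.ker f := (LinearMap.id - s ∘ₗ f).codRestrict _ fun x => by simp [h]
  refine ⟨LinearEquiv.ofBijective (f.prod r) ⟨fun x y hxy => ?_, fun ⟨w, k⟩ => ⟨s w + k.1, ?_⟩⟩⟩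
  · have h1 : f x = f y := congrArg Prod.fst hxy
    have h2 : x - s (f x) = y - s (f y) := congrArg (fun z => (z.2 : X)) hxy
    rwa [h1, sub_left_inj] at h2
  · refine Prod.ext ?_ (Subtype.ext ?_)
    · simp [h, LinearMap.mem_ker.1 k.2]
    · simp [r, h, LinearMap.mem_ker.1 k.2]

include hP in
/-- Kernels of surjections between reductions lift. -/
theorem exists_lift_ker {X W : ModuleCat.{u} R} (hX : Pc X) (hW : Pc W) {M N : Type u} [AddCommGroup M] [Module R M]
    [AddCommGroup N] [Module R N] {π : X →ₗ[R] M} (hπ : IsRed I π) {q : W →ₗ[R] N} (hq : IsRed I q)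
    (g : M →ₗ[R] N) (hg : Function.Surjective g) :
    ∃ f : X →ₗ[R] W, Function.Surjective f ∧ (∀ x, q (f x) = g (π x)) ∧ Pc (ModuleCat.of R (LinearMap.ker f)) ∧
      (∀ m, g m = 0 → ∃ x ∈ LinearMap.ker f, π x = m) ∧
      ∀ x ∈ LinearMap.ker f, π x = 0 → x ∈ I • LinearMap.ker f := by
  haveI := hP.proj X hX
  haveI := hP.proj W hW
  haveI := hP.iso
  obtain ⟨f, hf⟩ := Module.projective_lifting_property q (g ∘ₗ π) hq.1
  have hsurj : Function.Surjective f :=
    hP.surj X W (ModuleCat.ofHom f) hX hW (hq.range_sup f (by rw [hf]; exact hg.comp hπ.1))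
  obtain ⟨s, hs⟩ := Module.projective_lifting_property f LinearMap.id hsurj
  have hs' : ∀ w, f (s w) = w := fun w => LinearMap.congr_fun hs w
  obtain ⟨e⟩ := ker_equiv f s hs
  refine ⟨f, hsurj, fun x => LinearMap.congr_fun hf x, hP.cancel W _ hW (Pc.prop_of_iso e.toModuleIso hX), ?_, ?_⟩
  · intro m hm
    obtain ⟨x, rfl⟩ := hπ.1 m
    refine ⟨x - s (f x), by simp [hs'], ?_⟩
    have hfx : f x ∈ I • (⊤ : Submodule R W) := by
      rw [← hq.2, LinearMap.mem_ker]
      exact (LinearMap.congr_fun hf x).trans hm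
    have hsfx : s (f x) ∈ LinearMap.ker π := by
      rw [hπ.2]
      exact Submodule.smul_top_le_comap_smul_top I s hfx
    rw [map_sub, LinearMap.mem_ker.1 hsfx, sub_zero]
  · intro x hx h0
    let r : X →ₗ[R] X := LinearMap.id - s ∘ₗ f
    have hx' : x ∈ (I • (⊤ : Submodule R X)) := hπ.2 ▸ LinearMap.mem_ker.2 h0
    have hr : r x = x := by simp [r, LinearMap.mem_ker.1 hx]
    rw [← hr]
    have hle : Submodule.map r ⊤ ≤ LinearMap.ker f := by
      rintro _ ⟨y, -, rfl⟩
      simp [r, hs']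
    have := Submodule.mem_map_of_mem (f := r) hx'
    rw [Submodule.map_smul''] at this
    exact Submodule.smul_mono le_rfl hle this

theorem isRed_zero {X M : Type u} [AddCommGroup X] [Module R X] [AddCommGroup M] [Module R M] [Subsingleton X]
    [Subsingleton M] (π : X →ₗ[R] M) : IsRed I π :=
  ⟨fun _ => ⟨0, Subsingleton.elim _ _⟩, Subsingleton.elim _ _⟩

/-- `W ⊆ X` reduces onto the kernel of `d`. -/
structure IsLiftCyc {X M N : Type u} [AddCommGroup X] [Module R X] [AddCommGroup M] [Module R M] [AddCommGroup N]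
    [Module R N] (I : Ideal R) (Pc : ObjectProperty (ModuleCat.{u} R)) (π : X →ₗ[R] M) (d : M →ₗ[R] N)
    (W : Submodule R X) : Prop where
  pc : Pc (ModuleCat.of R W)
  cyc : ∀ w ∈ W, d (π w) = 0
  onto : ∀ m, d m = 0 → ∃ w ∈ W, π w = m
  red : ∀ w ∈ W, π w = 0 → w ∈ I • W

include hP in
theorem exists_diff {X X' : ModuleCat.{u} R} (hX : Pc X) {M M' M'' : Type u} [AddCommGroup M] [Module R M]
    [AddCommGroup M'] [Module R M'] [AddCommGroup M''] [Module R M''] {π : X →ₗ[R] M} (hπ : IsRed I π)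
    (π' : X' →ₗ[R] M') (d : M →ₗ[R] M') (d' : M' →ₗ[R] M'') (hex : Function.Exact d d') {W : Submodule R X'}
    (hW : IsLiftCyc I Pc π' d' W) :
    ∃ f : X →ₗ[R] X', LinearMap.range f = W ∧ (∀ x, π' (f x) = d (π x)) ∧ IsLiftCyc I Pc π d (LinearMap.ker f) := by
  let q : W →ₗ[R] LinearMap.ker d' := (π' ∘ₗ W.subtype).codRestrict _ fun w => LinearMap.mem_ker.2 (hW.cyc w.1 w.2)
  have hq : IsRed I q := by
    refine ⟨fun ⟨m, hm⟩ => ?_, ?_⟩
    · obtain ⟨w, hw, rfl⟩ := hW.onto m hm
      exact ⟨⟨w, hw⟩, rfl⟩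
    · refine le_antisymm (fun w hw => ?_) (Submodule.smul_le.2 fun r hr w _ => ?_)
      · have := hW.red w.1 w.2 (congrArg Subtype.val (LinearMap.mem_ker.1 hw))
        have hmap : (I • ⊤ : Submodule R W).map W.subtype = I • W := by
          rw [Submodule.map_smul'', Submodule.map_subtype_top]
        rw [← hmap] at this
        obtain ⟨w', hw', he⟩ := this
        exact (W.injective_subtype he) ▸ hw'
      · refine LinearMap.mem_ker.2 (Subtype.ext ?_)
        show π' (r • w.1) = 0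
        obtain ⟨x, hx⟩ := (hex (π' w.1)).1 (hW.cyc _ w.2)
        obtain ⟨y, rfl⟩ := hπ.1 x
        rw [map_smul, ← hx, ← map_smul, ← map_smul,
          show π (r • y) = 0 from LinearMap.mem_ker.1 (hπ.2 ▸ Submodule.smul_mem_smul hr Submodule.mem_top), map_zero]
  let g : M →ₗ[R] LinearMap.ker d' := d.codRestrict _ fun m => LinearMap.mem_ker.2 (hex.apply_apply_eq_zero m)
  obtain ⟨f, hf, hc, hpc, hon, hr⟩ := exists_lift_ker hP (W := ModuleCat.of R W) hX hW.pc hπ hq g
    fun ⟨m, hm⟩ => ((hex m).1 hm).imp fun x hx => Subtype.ext hx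
  have hker : LinearMap.ker (W.subtype ∘ₗ f) = LinearMap.ker f := LinearMap.ker_comp_of_ker_eq_bot _ W.ker_subtype
  refine ⟨W.subtype ∘ₗ f, ?_, fun x => congrArg Subtype.val (hc x), ?_⟩
  · rw [LinearMap.range_comp, LinearMap.range_eq_top.2 hf, Submodule.map_top, Submodule.range_subtype]
  · rw [hker]
    refine ⟨hpc, fun x hx => ?_, fun m hm => hon m (Subtype.ext hm), hr⟩
    have h2 : (q (f x)).1 = d (π x) := congrArg Subtype.val (hc x)
    rw [LinearMap.mem_ker.1 hx, map_zero] at h2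
    exact h2.symm

include hP in
theorem prop_zero {X : ModuleCat.{u} R} (hX : Pc X) {Z : ModuleCat.{u} R} (hZ : IsZero Z) : Pc Z := by
  haveI := hP.iso
  haveI := ModuleCat.subsingleton_of_isZero hZ
  refine hP.cancel X Z hX (Pc.prop_of_iso ?_ hX)
  exact (LinearEquiv.toModuleIso
    { toFun := fun x => (x, (0 : Z)), invFun := fun p => p.1, left_inv := fun _ => rfl,
      right_inv := fun p => Prod.ext rfl (Subsingleton.elim _ _),
      map_add' := fun _ _ => by simp, map_smul' := fun _ _ => by simp })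

section Acyclic

variable (E : DRing.Cx R) (b : ℤ)

include hP in
theorem isLiftCyc_top {X : ModuleCat.{u} R} (hX : Pc X) [Subsingleton X] {M N : Type u} [AddCommGroup M] [Module R M]
    [AddCommGroup N] [Module R N] [Subsingleton M] (π : X →ₗ[R] M) (d : M →ₗ[R] N) :
    IsLiftCyc I Pc π d ⊤ :=
  ⟨prop_zero hP hX (@ModuleCat.isZero_of_subsingleton _ _ (ModuleCat.of R (⊤ : Submodule R X)) inferInstance),
    fun w _ => by rw [Subsingleton.elim (π w) 0, map_zero], fun m _ => ⟨0, trivial, Subsingleton.elim _ _⟩,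
    fun w _ _ => by rw [Subsingleton.elim w 0]; exact zero_mem _⟩

include hP in
/-- An acyclic bounded above complex of reductions lifts to an acyclic complex. -/
theorem exists_acyclic_lift (hEb : DRing.VanishesAbove E b) (hEa : ∀ i, E.ExactAt i)
    (h : ∀ i, ∃ (X : ModuleCat.{u} R) (π : X →ₗ[R] E.X i), Pc X ∧ IsRed I π) :
    ∃ (P : DRing.Cx R) (ρ : P ⟶ E), DRing.VanishesAbove P b ∧ P.Acyclic ∧ (∀ i, Pc (P.X i)) ∧
      ∀ i, IsRed I (ρ.f i).hom := by
  have h' : ∀ i, ∃ (X : ModuleCat.{u} R) (π : X →ₗ[R] E.X i), Pc X ∧ IsRed I π ∧ (b < i → IsZero X) := by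
    intro i
    obtain ⟨X, π, hX, hπ⟩ := h i
    by_cases hi : b < i
    · haveI := ModuleCat.subsingleton_of_isZero (hEb i hi)
      haveI : Subsingleton (ModuleCat.of R PUnit.{u + 1}) := inferInstanceAs (Subsingleton PUnit)
      exact ⟨ModuleCat.of R PUnit.{u + 1}, 0, prop_zero hP hX (ModuleCat.isZero_of_subsingleton _),
        isRed_zero _, fun _ => ModuleCat.isZero_of_subsingleton _⟩
    · exact ⟨X, π, hX, hπ, fun h => absurd h hi⟩
  choose X π hX hπ hX0 using h'
  have hex : ∀ i j k : ℤ, i + 1 = j → j + 1 = k → Function.Exact (E.d i j).hom (E.d j k).hom :=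
    fun i j k hij hjk => (DRingTorAmp.exact_d_iff E i j k hij hjk).1 (hEa j)
  let d := fun i : ℤ => (E.d i (i + 1)).hom
  have step : ∀ (i : ℤ) (W : Submodule R (X (i + 1))), ∃ f : X i →ₗ[R] X (i + 1),
      IsLiftCyc I Pc (π (i + 1)) (d (i + 1)) W →
        LinearMap.range f = W ∧ (∀ x, π (i + 1) (f x) = d i (π i x)) ∧
          IsLiftCyc I Pc (π i) (d i) (LinearMap.ker f) := by
    intro i W
    by_cases hW : IsLiftCyc I Pc (π (i + 1)) (d (i + 1)) W
    · exact (exists_diff hP (hX i) (hπ i) _ _ _ (hex i (i + 1) (i + 1 + 1) rfl rfl) hW).imp fun _ h _ => h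
    · exact ⟨0, fun h => absurd h hW⟩
  choose F hF using step
  let stage : ℕ → ∀ i : ℤ, Submodule R (X i) := fun n => Nat.rec (motive := fun _ => ∀ i, Submodule R (X i))
    (fun _ => ⊤) (fun _ prev i => if b < i then ⊤ else LinearMap.ker (F i (prev (i + 1)))) n
  let W : ∀ i : ℤ, Submodule R (X i) := fun i => stage (b + 1 - i).toNat i
  have hsub : ∀ i, b < i → Subsingleton (X i) := fun i hi => ModuleCat.subsingleton_of_isZero (hX0 i hi)
  have hWeq : ∀ i, W i = LinearMap.ker (F i (W (i + 1))) := by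
    intro i
    by_cases hi : b < i
    · haveI := hsub i hi
      exact Subsingleton.elim _ _
    · have : (b + 1 - i).toNat = (b + 1 - (i + 1)).toNat + 1 := by omega
      show stage (b + 1 - i).toNat i = _
      rw [this]
      exact if_neg hi
  have hW : ∀ (n : ℕ) (i : ℤ), (b + 1 - i).toNat = n → IsLiftCyc I Pc (π i) (d i) (W i) := by
    intro n
    induction n with
    | zero =>
      intro i hi
      haveI := hsub i (by omega)
      haveI := ModuleCat.subsingleton_of_isZero (hEb i (by omega))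
      rw [Subsingleton.elim (W i) ⊤]
      exact isLiftCyc_top hP (hX i) _ _
    | succ n ih =>
      intro i hi
      rw [hWeq i]
      exact (hF i (W (i + 1)) (ih (i + 1) (by omega))).2.2
  let D := fun i => F i (W (i + 1))
  have hD : ∀ i, LinearMap.range (D i) = W (i + 1) ∧ (∀ x, π (i + 1) (D i x) = d i (π i x)) ∧
      IsLiftCyc I Pc (π i) (d i) (LinearMap.ker (D i)) := fun i => hF i _ (hW _ (i + 1) rfl)
  have hdd : ∀ i, ModuleCat.ofHom (D i) ≫ ModuleCat.ofHom (D (i + 1)) = 0 := fun i => ModuleCat.hom_ext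
    (LinearMap.ext fun x => by
      have : D i x ∈ W (i + 1) := (hD i).1 ▸ LinearMap.mem_range_self _ x
      rw [hWeq] at this
      exact LinearMap.mem_ker.1 this)
  let P : DRing.Cx R := CochainComplex.of X (fun i => ModuleCat.ofHom (D i)) hdd
  have hPd : ∀ i, P.d i (i + 1) = ModuleCat.ofHom (D i) := fun i => CochainComplex.of_d X (fun i => ModuleCat.ofHom (D i)) i
  refine ⟨P, { f := fun i => ModuleCat.ofHom (π i), comm' := ?_ }, hX0, fun i => ?_, hX, hπ⟩
  · rintro i _ rfl
    rw [hPd]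
    exact ModuleCat.hom_ext (LinearMap.ext fun x => ((hD i).2.1 x).symm)
  · obtain ⟨i, rfl⟩ : ∃ k, i = k + 1 := ⟨i - 1, by omega⟩
    rw [DRingTorAmp.exact_d_iff P i (i + 1) (i + 1 + 1) rfl rfl, hPd, hPd]
    intro x
    show D (i + 1) x = 0 ↔ x ∈ LinearMap.range (D i)
    rw [(hD i).1, hWeq (i + 1), LinearMap.mem_ker]

end Acyclic

end Groth.Agent.DRingLift
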